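import Cfsg.Agent.Lib.Helper1.Co1Mu.P5.E0
import Cfsg.Agent.Lib.Helper1.Co1Mu.P5.E1
import Cfsg.Agent.Lib.Helper1.Co1Mu.P5.E2
set_option autoImplicit false

/-! # The entries of the sparse certificate -/

namespace Cfsg.Agent.Lib.Helper1.Co1Mu.P5

noncomputable def eT0 (i : Nat) : Nat := Bool.rec (eL1 i) (eL2 i) (Nat.ble 2048 i)
noncomputable def eT1 (i : Nat) : Nat := Bool.rec (eL0 i) (eT0 i) (Nat.ble 1024 i)
noncomputable def eT2 (i : Nat) : Nat := Bool.rec (eL3 i) (eL4 i) (Nat.ble 4096 i)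
noncomputable def eT3 (i : Nat) : Nat := Bool.rec (eL5 i) (eL6 i) (Nat.ble 6144 i)
noncomputable def eT4 (i : Nat) : Nat := Bool.rec (eT2 i) (eT3 i) (Nat.ble 5120 i)
noncomputable def eT5 (i : Nat) : Nat := Bool.rec (eT1 i) (eT4 i) (Nat.ble 3072 i)
noncomputable def eT6 (i : Nat) : Nat := Bool.rec (eL7 i) (eL8 i) (Nat.ble 8192 i)
noncomputable def eT7 (i : Nat) : Nat := Bool.rec (eL9 i) (eL10 i) (Nat.ble 10240 i)
noncomputable def eT8 (i : Nat) : Nat := Bool.rec (eT6 i) (eT7 i) (Nat.ble 9216 i)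
noncomputable def eT9 (i : Nat) : Nat := Bool.rec (eL11 i) (eL12 i) (Nat.ble 12288 i)
noncomputable def eT10 (i : Nat) : Nat := Bool.rec (eL13 i) (eL14 i) (Nat.ble 14336 i)
noncomputable def eT11 (i : Nat) : Nat := Bool.rec (eT9 i) (eT10 i) (Nat.ble 13312 i)
noncomputable def eT12 (i : Nat) : Nat := Bool.rec (eT8 i) (eT11 i) (Nat.ble 11264 i)
noncomputable def eT13 (i : Nat) : Nat := Bool.rec (eT5 i) (eT12 i) (Nat.ble 7168 i)
noncomputable def eT14 (i : Nat) : Nat := Bool.rec (eL16 i) (eL17 i) (Nat.ble 17408 i)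
noncomputable def eT15 (i : Nat) : Nat := Bool.rec (eL15 i) (eT14 i) (Nat.ble 16384 i)
noncomputable def eT16 (i : Nat) : Nat := Bool.rec (eL18 i) (eL19 i) (Nat.ble 19456 i)
noncomputable def eT17 (i : Nat) : Nat := Bool.rec (eL20 i) (eL21 i) (Nat.ble 21504 i)
noncomputable def eT18 (i : Nat) : Nat := Bool.rec (eT16 i) (eT17 i) (Nat.ble 20480 i)
noncomputable def eT19 (i : Nat) : Nat := Bool.rec (eT15 i) (eT18 i) (Nat.ble 18432 i)
noncomputable def eT20 (i : Nat) : Nat := Bool.rec (eL22 i) (eL23 i) (Nat.ble 23552 i)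
noncomputable def eT21 (i : Nat) : Nat := Bool.rec (eL24 i) (eL25 i) (Nat.ble 25600 i)
noncomputable def eT22 (i : Nat) : Nat := Bool.rec (eT20 i) (eT21 i) (Nat.ble 24576 i)
noncomputable def eT23 (i : Nat) : Nat := Bool.rec (eL26 i) (eL27 i) (Nat.ble 27648 i)
noncomputable def eT24 (i : Nat) : Nat := Bool.rec (eL28 i) (eL29 i) (Nat.ble 29696 i)
noncomputable def eT25 (i : Nat) : Nat := Bool.rec (eT23 i) (eT24 i) (Nat.ble 28672 i)
noncomputable def eT26 (i : Nat) : Nat := Bool.rec (eT22 i) (eT25 i) (Nat.ble 26624 i)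
noncomputable def eT27 (i : Nat) : Nat := Bool.rec (eT19 i) (eT26 i) (Nat.ble 22528 i)
noncomputable def eT28 (i : Nat) : Nat := Bool.rec (eT13 i) (eT27 i) (Nat.ble 15360 i)
noncomputable def eT29 (i : Nat) : Nat := Bool.rec (eL31 i) (eL32 i) (Nat.ble 32768 i)
noncomputable def eT30 (i : Nat) : Nat := Bool.rec (eL30 i) (eT29 i) (Nat.ble 31744 i)
noncomputable def eT31 (i : Nat) : Nat := Bool.rec (eL33 i) (eL34 i) (Nat.ble 34816 i)
noncomputable def eT32 (i : Nat) : Nat := Bool.rec (eL35 i) (eL36 i) (Nat.ble 36864 i)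
noncomputable def eT33 (i : Nat) : Nat := Bool.rec (eT31 i) (eT32 i) (Nat.ble 35840 i)
noncomputable def eT34 (i : Nat) : Nat := Bool.rec (eT30 i) (eT33 i) (Nat.ble 33792 i)
noncomputable def eT35 (i : Nat) : Nat := Bool.rec (eL37 i) (eL38 i) (Nat.ble 38912 i)
noncomputable def eT36 (i : Nat) : Nat := Bool.rec (eL39 i) (eL40 i) (Nat.ble 40960 i)
noncomputable def eT37 (i : Nat) : Nat := Bool.rec (eT35 i) (eT36 i) (Nat.ble 39936 i)
noncomputable def eT38 (i : Nat) : Nat := Bool.rec (eL41 i) (eL42 i) (Nat.ble 43008 i)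
noncomputable def eT39 (i : Nat) : Nat := Bool.rec (eL43 i) (eL44 i) (Nat.ble 45056 i)
noncomputable def eT40 (i : Nat) : Nat := Bool.rec (eT38 i) (eT39 i) (Nat.ble 44032 i)
noncomputable def eT41 (i : Nat) : Nat := Bool.rec (eT37 i) (eT40 i) (Nat.ble 41984 i)
noncomputable def eT42 (i : Nat) : Nat := Bool.rec (eT34 i) (eT41 i) (Nat.ble 37888 i)
noncomputable def eT43 (i : Nat) : Nat := Bool.rec (eL46 i) (eL47 i) (Nat.ble 48128 i)
noncomputable def eT44 (i : Nat) : Nat := Bool.rec (eL45 i) (eT43 i) (Nat.ble 47104 i)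
noncomputable def eT45 (i : Nat) : Nat := Bool.rec (eL48 i) (eL49 i) (Nat.ble 50176 i)
noncomputable def eT46 (i : Nat) : Nat := Bool.rec (eL50 i) (eL51 i) (Nat.ble 52224 i)
noncomputable def eT47 (i : Nat) : Nat := Bool.rec (eT45 i) (eT46 i) (Nat.ble 51200 i)
noncomputable def eT48 (i : Nat) : Nat := Bool.rec (eT44 i) (eT47 i) (Nat.ble 49152 i)
noncomputable def eT49 (i : Nat) : Nat := Bool.rec (eL52 i) (eL53 i) (Nat.ble 54272 i)
noncomputable def eT50 (i : Nat) : Nat := Bool.rec (eL54 i) (eL55 i) (Nat.ble 56320 i)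
noncomputable def eT51 (i : Nat) : Nat := Bool.rec (eT49 i) (eT50 i) (Nat.ble 55296 i)
noncomputable def eT52 (i : Nat) : Nat := Bool.rec (eL56 i) (eL57 i) (Nat.ble 58368 i)
noncomputable def eT53 (i : Nat) : Nat := Bool.rec (eL58 i) (eL59 i) (Nat.ble 60416 i)
noncomputable def eT54 (i : Nat) : Nat := Bool.rec (eT52 i) (eT53 i) (Nat.ble 59392 i)
noncomputable def eT55 (i : Nat) : Nat := Bool.rec (eT51 i) (eT54 i) (Nat.ble 57344 i)
noncomputable def eT56 (i : Nat) : Nat := Bool.rec (eT48 i) (eT55 i) (Nat.ble 53248 i)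
noncomputable def eT57 (i : Nat) : Nat := Bool.rec (eT42 i) (eT56 i) (Nat.ble 46080 i)
noncomputable def eT58 (i : Nat) : Nat := Bool.rec (eT28 i) (eT57 i) (Nat.ble 30720 i)
noncomputable def eT59 (i : Nat) : Nat := Bool.rec (eL61 i) (eL62 i) (Nat.ble 63488 i)
noncomputable def eT60 (i : Nat) : Nat := Bool.rec (eL60 i) (eT59 i) (Nat.ble 62464 i)
noncomputable def eT61 (i : Nat) : Nat := Bool.rec (eL63 i) (eL64 i) (Nat.ble 65536 i)
noncomputable def eT62 (i : Nat) : Nat := Bool.rec (eL65 i) (eL66 i) (Nat.ble 67584 i)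
noncomputable def eT63 (i : Nat) : Nat := Bool.rec (eT61 i) (eT62 i) (Nat.ble 66560 i)
noncomputable def eT64 (i : Nat) : Nat := Bool.rec (eT60 i) (eT63 i) (Nat.ble 64512 i)
noncomputable def eT65 (i : Nat) : Nat := Bool.rec (eL67 i) (eL68 i) (Nat.ble 69632 i)
noncomputable def eT66 (i : Nat) : Nat := Bool.rec (eL69 i) (eL70 i) (Nat.ble 71680 i)
noncomputable def eT67 (i : Nat) : Nat := Bool.rec (eT65 i) (eT66 i) (Nat.ble 70656 i)
noncomputable def eT68 (i : Nat) : Nat := Bool.rec (eL71 i) (eL72 i) (Nat.ble 73728 i)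
noncomputable def eT69 (i : Nat) : Nat := Bool.rec (eL73 i) (eL74 i) (Nat.ble 75776 i)
noncomputable def eT70 (i : Nat) : Nat := Bool.rec (eT68 i) (eT69 i) (Nat.ble 74752 i)
noncomputable def eT71 (i : Nat) : Nat := Bool.rec (eT67 i) (eT70 i) (Nat.ble 72704 i)
noncomputable def eT72 (i : Nat) : Nat := Bool.rec (eT64 i) (eT71 i) (Nat.ble 68608 i)
noncomputable def eT73 (i : Nat) : Nat := Bool.rec (eL76 i) (eL77 i) (Nat.ble 78848 i)
noncomputable def eT74 (i : Nat) : Nat := Bool.rec (eL75 i) (eT73 i) (Nat.ble 77824 i)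
noncomputable def eT75 (i : Nat) : Nat := Bool.rec (eL78 i) (eL79 i) (Nat.ble 80896 i)
noncomputable def eT76 (i : Nat) : Nat := Bool.rec (eL80 i) (eL81 i) (Nat.ble 82944 i)
noncomputable def eT77 (i : Nat) : Nat := Bool.rec (eT75 i) (eT76 i) (Nat.ble 81920 i)
noncomputable def eT78 (i : Nat) : Nat := Bool.rec (eT74 i) (eT77 i) (Nat.ble 79872 i)
noncomputable def eT79 (i : Nat) : Nat := Bool.rec (eL82 i) (eL83 i) (Nat.ble 84992 i)
noncomputable def eT80 (i : Nat) : Nat := Bool.rec (eL84 i) (eL85 i) (Nat.ble 87040 i)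
noncomputable def eT81 (i : Nat) : Nat := Bool.rec (eT79 i) (eT80 i) (Nat.ble 86016 i)
noncomputable def eT82 (i : Nat) : Nat := Bool.rec (eL86 i) (eL87 i) (Nat.ble 89088 i)
noncomputable def eT83 (i : Nat) : Nat := Bool.rec (eL88 i) (eL89 i) (Nat.ble 91136 i)
noncomputable def eT84 (i : Nat) : Nat := Bool.rec (eT82 i) (eT83 i) (Nat.ble 90112 i)
noncomputable def eT85 (i : Nat) : Nat := Bool.rec (eT81 i) (eT84 i) (Nat.ble 88064 i)
noncomputable def eT86 (i : Nat) : Nat := Bool.rec (eT78 i) (eT85 i) (Nat.ble 83968 i)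
noncomputable def eT87 (i : Nat) : Nat := Bool.rec (eT72 i) (eT86 i) (Nat.ble 76800 i)
noncomputable def eT88 (i : Nat) : Nat := Bool.rec (eL91 i) (eL92 i) (Nat.ble 94208 i)
noncomputable def eT89 (i : Nat) : Nat := Bool.rec (eL90 i) (eT88 i) (Nat.ble 93184 i)
noncomputable def eT90 (i : Nat) : Nat := Bool.rec (eL93 i) (eL94 i) (Nat.ble 96256 i)
noncomputable def eT91 (i : Nat) : Nat := Bool.rec (eL95 i) (eL96 i) (Nat.ble 98304 i)
noncomputable def eT92 (i : Nat) : Nat := Bool.rec (eT90 i) (eT91 i) (Nat.ble 97280 i)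
noncomputable def eT93 (i : Nat) : Nat := Bool.rec (eT89 i) (eT92 i) (Nat.ble 95232 i)
noncomputable def eT94 (i : Nat) : Nat := Bool.rec (eL97 i) (eL98 i) (Nat.ble 100352 i)
noncomputable def eT95 (i : Nat) : Nat := Bool.rec (eL99 i) (eL100 i) (Nat.ble 102400 i)
noncomputable def eT96 (i : Nat) : Nat := Bool.rec (eT94 i) (eT95 i) (Nat.ble 101376 i)
noncomputable def eT97 (i : Nat) : Nat := Bool.rec (eL101 i) (eL102 i) (Nat.ble 104448 i)
noncomputable def eT98 (i : Nat) : Nat := Bool.rec (eL103 i) (eL104 i) (Nat.ble 106496 i)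
noncomputable def eT99 (i : Nat) : Nat := Bool.rec (eT97 i) (eT98 i) (Nat.ble 105472 i)
noncomputable def eT100 (i : Nat) : Nat := Bool.rec (eT96 i) (eT99 i) (Nat.ble 103424 i)
noncomputable def eT101 (i : Nat) : Nat := Bool.rec (eT93 i) (eT100 i) (Nat.ble 99328 i)
noncomputable def eT102 (i : Nat) : Nat := Bool.rec (eL106 i) (eL107 i) (Nat.ble 109568 i)
noncomputable def eT103 (i : Nat) : Nat := Bool.rec (eL105 i) (eT102 i) (Nat.ble 108544 i)
noncomputable def eT104 (i : Nat) : Nat := Bool.rec (eL108 i) (eL109 i) (Nat.ble 111616 i)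
noncomputable def eT105 (i : Nat) : Nat := Bool.rec (eL110 i) (eL111 i) (Nat.ble 113664 i)
noncomputable def eT106 (i : Nat) : Nat := Bool.rec (eT104 i) (eT105 i) (Nat.ble 112640 i)
noncomputable def eT107 (i : Nat) : Nat := Bool.rec (eT103 i) (eT106 i) (Nat.ble 110592 i)
noncomputable def eT108 (i : Nat) : Nat := Bool.rec (eL112 i) (eL113 i) (Nat.ble 115712 i)
noncomputable def eT109 (i : Nat) : Nat := Bool.rec (eL114 i) (eL115 i) (Nat.ble 117760 i)
noncomputable def eT110 (i : Nat) : Nat := Bool.rec (eT108 i) (eT109 i) (Nat.ble 116736 i)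
noncomputable def eT111 (i : Nat) : Nat := Bool.rec (eL116 i) (eL117 i) (Nat.ble 119808 i)
noncomputable def eT112 (i : Nat) : Nat := Bool.rec (eL118 i) (eL119 i) (Nat.ble 121856 i)
noncomputable def eT113 (i : Nat) : Nat := Bool.rec (eT111 i) (eT112 i) (Nat.ble 120832 i)
noncomputable def eT114 (i : Nat) : Nat := Bool.rec (eT110 i) (eT113 i) (Nat.ble 118784 i)
noncomputable def eT115 (i : Nat) : Nat := Bool.rec (eT107 i) (eT114 i) (Nat.ble 114688 i)
noncomputable def eT116 (i : Nat) : Nat := Bool.rec (eT101 i) (eT115 i) (Nat.ble 107520 i)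
noncomputable def eT117 (i : Nat) : Nat := Bool.rec (eT87 i) (eT116 i) (Nat.ble 92160 i)
noncomputable def eT118 (i : Nat) : Nat := Bool.rec (eT58 i) (eT117 i) (Nat.ble 61440 i)
noncomputable def eT119 (i : Nat) : Nat := Bool.rec (eL121 i) (eL122 i) (Nat.ble 124928 i)
noncomputable def eT120 (i : Nat) : Nat := Bool.rec (eL120 i) (eT119 i) (Nat.ble 123904 i)
noncomputable def eT121 (i : Nat) : Nat := Bool.rec (eL123 i) (eL124 i) (Nat.ble 126976 i)
noncomputable def eT122 (i : Nat) : Nat := Bool.rec (eL125 i) (eL126 i) (Nat.ble 129024 i)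
noncomputable def eT123 (i : Nat) : Nat := Bool.rec (eT121 i) (eT122 i) (Nat.ble 128000 i)
noncomputable def eT124 (i : Nat) : Nat := Bool.rec (eT120 i) (eT123 i) (Nat.ble 125952 i)
noncomputable def eT125 (i : Nat) : Nat := Bool.rec (eL127 i) (eL128 i) (Nat.ble 131072 i)
noncomputable def eT126 (i : Nat) : Nat := Bool.rec (eL129 i) (eL130 i) (Nat.ble 133120 i)
noncomputable def eT127 (i : Nat) : Nat := Bool.rec (eT125 i) (eT126 i) (Nat.ble 132096 i)
noncomputable def eT128 (i : Nat) : Nat := Bool.rec (eL131 i) (eL132 i) (Nat.ble 135168 i)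
noncomputable def eT129 (i : Nat) : Nat := Bool.rec (eL133 i) (eL134 i) (Nat.ble 137216 i)
noncomputable def eT130 (i : Nat) : Nat := Bool.rec (eT128 i) (eT129 i) (Nat.ble 136192 i)
noncomputable def eT131 (i : Nat) : Nat := Bool.rec (eT127 i) (eT130 i) (Nat.ble 134144 i)
noncomputable def eT132 (i : Nat) : Nat := Bool.rec (eT124 i) (eT131 i) (Nat.ble 130048 i)
noncomputable def eT133 (i : Nat) : Nat := Bool.rec (eL136 i) (eL137 i) (Nat.ble 140288 i)
noncomputable def eT134 (i : Nat) : Nat := Bool.rec (eL135 i) (eT133 i) (Nat.ble 139264 i)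
noncomputable def eT135 (i : Nat) : Nat := Bool.rec (eL138 i) (eL139 i) (Nat.ble 142336 i)
noncomputable def eT136 (i : Nat) : Nat := Bool.rec (eL140 i) (eL141 i) (Nat.ble 144384 i)
noncomputable def eT137 (i : Nat) : Nat := Bool.rec (eT135 i) (eT136 i) (Nat.ble 143360 i)
noncomputable def eT138 (i : Nat) : Nat := Bool.rec (eT134 i) (eT137 i) (Nat.ble 141312 i)
noncomputable def eT139 (i : Nat) : Nat := Bool.rec (eL142 i) (eL143 i) (Nat.ble 146432 i)
noncomputable def eT140 (i : Nat) : Nat := Bool.rec (eL144 i) (eL145 i) (Nat.ble 148480 i)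
noncomputable def eT141 (i : Nat) : Nat := Bool.rec (eT139 i) (eT140 i) (Nat.ble 147456 i)
noncomputable def eT142 (i : Nat) : Nat := Bool.rec (eL146 i) (eL147 i) (Nat.ble 150528 i)
noncomputable def eT143 (i : Nat) : Nat := Bool.rec (eL148 i) (eL149 i) (Nat.ble 152576 i)
noncomputable def eT144 (i : Nat) : Nat := Bool.rec (eT142 i) (eT143 i) (Nat.ble 151552 i)
noncomputable def eT145 (i : Nat) : Nat := Bool.rec (eT141 i) (eT144 i) (Nat.ble 149504 i)
noncomputable def eT146 (i : Nat) : Nat := Bool.rec (eT138 i) (eT145 i) (Nat.ble 145408 i)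
noncomputable def eT147 (i : Nat) : Nat := Bool.rec (eT132 i) (eT146 i) (Nat.ble 138240 i)
noncomputable def eT148 (i : Nat) : Nat := Bool.rec (eL151 i) (eL152 i) (Nat.ble 155648 i)
noncomputable def eT149 (i : Nat) : Nat := Bool.rec (eL150 i) (eT148 i) (Nat.ble 154624 i)
noncomputable def eT150 (i : Nat) : Nat := Bool.rec (eL153 i) (eL154 i) (Nat.ble 157696 i)
noncomputable def eT151 (i : Nat) : Nat := Bool.rec (eL155 i) (eL156 i) (Nat.ble 159744 i)
noncomputable def eT152 (i : Nat) : Nat := Bool.rec (eT150 i) (eT151 i) (Nat.ble 158720 i)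
noncomputable def eT153 (i : Nat) : Nat := Bool.rec (eT149 i) (eT152 i) (Nat.ble 156672 i)
noncomputable def eT154 (i : Nat) : Nat := Bool.rec (eL157 i) (eL158 i) (Nat.ble 161792 i)
noncomputable def eT155 (i : Nat) : Nat := Bool.rec (eL159 i) (eL160 i) (Nat.ble 163840 i)
noncomputable def eT156 (i : Nat) : Nat := Bool.rec (eT154 i) (eT155 i) (Nat.ble 162816 i)
noncomputable def eT157 (i : Nat) : Nat := Bool.rec (eL161 i) (eL162 i) (Nat.ble 165888 i)
noncomputable def eT158 (i : Nat) : Nat := Bool.rec (eL163 i) (eL164 i) (Nat.ble 167936 i)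
noncomputable def eT159 (i : Nat) : Nat := Bool.rec (eT157 i) (eT158 i) (Nat.ble 166912 i)
noncomputable def eT160 (i : Nat) : Nat := Bool.rec (eT156 i) (eT159 i) (Nat.ble 164864 i)
noncomputable def eT161 (i : Nat) : Nat := Bool.rec (eT153 i) (eT160 i) (Nat.ble 160768 i)
noncomputable def eT162 (i : Nat) : Nat := Bool.rec (eL166 i) (eL167 i) (Nat.ble 171008 i)
noncomputable def eT163 (i : Nat) : Nat := Bool.rec (eL165 i) (eT162 i) (Nat.ble 169984 i)
noncomputable def eT164 (i : Nat) : Nat := Bool.rec (eL168 i) (eL169 i) (Nat.ble 173056 i)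
noncomputable def eT165 (i : Nat) : Nat := Bool.rec (eL170 i) (eL171 i) (Nat.ble 175104 i)
noncomputable def eT166 (i : Nat) : Nat := Bool.rec (eT164 i) (eT165 i) (Nat.ble 174080 i)
noncomputable def eT167 (i : Nat) : Nat := Bool.rec (eT163 i) (eT166 i) (Nat.ble 172032 i)
noncomputable def eT168 (i : Nat) : Nat := Bool.rec (eL172 i) (eL173 i) (Nat.ble 177152 i)
noncomputable def eT169 (i : Nat) : Nat := Bool.rec (eL174 i) (eL175 i) (Nat.ble 179200 i)
noncomputable def eT170 (i : Nat) : Nat := Bool.rec (eT168 i) (eT169 i) (Nat.ble 178176 i)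
noncomputable def eT171 (i : Nat) : Nat := Bool.rec (eL176 i) (eL177 i) (Nat.ble 181248 i)
noncomputable def eT172 (i : Nat) : Nat := Bool.rec (eL178 i) (eL179 i) (Nat.ble 183296 i)
noncomputable def eT173 (i : Nat) : Nat := Bool.rec (eT171 i) (eT172 i) (Nat.ble 182272 i)
noncomputable def eT174 (i : Nat) : Nat := Bool.rec (eT170 i) (eT173 i) (Nat.ble 180224 i)
noncomputable def eT175 (i : Nat) : Nat := Bool.rec (eT167 i) (eT174 i) (Nat.ble 176128 i)
noncomputable def eT176 (i : Nat) : Nat := Bool.rec (eT161 i) (eT175 i) (Nat.ble 168960 i)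
noncomputable def eT177 (i : Nat) : Nat := Bool.rec (eT147 i) (eT176 i) (Nat.ble 153600 i)
noncomputable def eT178 (i : Nat) : Nat := Bool.rec (eL181 i) (eL182 i) (Nat.ble 186368 i)
noncomputable def eT179 (i : Nat) : Nat := Bool.rec (eL180 i) (eT178 i) (Nat.ble 185344 i)
noncomputable def eT180 (i : Nat) : Nat := Bool.rec (eL183 i) (eL184 i) (Nat.ble 188416 i)
noncomputable def eT181 (i : Nat) : Nat := Bool.rec (eL185 i) (eL186 i) (Nat.ble 190464 i)
noncomputable def eT182 (i : Nat) : Nat := Bool.rec (eT180 i) (eT181 i) (Nat.ble 189440 i)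
noncomputable def eT183 (i : Nat) : Nat := Bool.rec (eT179 i) (eT182 i) (Nat.ble 187392 i)
noncomputable def eT184 (i : Nat) : Nat := Bool.rec (eL187 i) (eL188 i) (Nat.ble 192512 i)
noncomputable def eT185 (i : Nat) : Nat := Bool.rec (eL189 i) (eL190 i) (Nat.ble 194560 i)
noncomputable def eT186 (i : Nat) : Nat := Bool.rec (eT184 i) (eT185 i) (Nat.ble 193536 i)
noncomputable def eT187 (i : Nat) : Nat := Bool.rec (eL191 i) (eL192 i) (Nat.ble 196608 i)
noncomputable def eT188 (i : Nat) : Nat := Bool.rec (eL193 i) (eL194 i) (Nat.ble 198656 i)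
noncomputable def eT189 (i : Nat) : Nat := Bool.rec (eT187 i) (eT188 i) (Nat.ble 197632 i)
noncomputable def eT190 (i : Nat) : Nat := Bool.rec (eT186 i) (eT189 i) (Nat.ble 195584 i)
noncomputable def eT191 (i : Nat) : Nat := Bool.rec (eT183 i) (eT190 i) (Nat.ble 191488 i)
noncomputable def eT192 (i : Nat) : Nat := Bool.rec (eL196 i) (eL197 i) (Nat.ble 201728 i)
noncomputable def eT193 (i : Nat) : Nat := Bool.rec (eL195 i) (eT192 i) (Nat.ble 200704 i)
noncomputable def eT194 (i : Nat) : Nat := Bool.rec (eL198 i) (eL199 i) (Nat.ble 203776 i)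
noncomputable def eT195 (i : Nat) : Nat := Bool.rec (eL200 i) (eL201 i) (Nat.ble 205824 i)
noncomputable def eT196 (i : Nat) : Nat := Bool.rec (eT194 i) (eT195 i) (Nat.ble 204800 i)
noncomputable def eT197 (i : Nat) : Nat := Bool.rec (eT193 i) (eT196 i) (Nat.ble 202752 i)
noncomputable def eT198 (i : Nat) : Nat := Bool.rec (eL202 i) (eL203 i) (Nat.ble 207872 i)
noncomputable def eT199 (i : Nat) : Nat := Bool.rec (eL204 i) (eL205 i) (Nat.ble 209920 i)
noncomputable def eT200 (i : Nat) : Nat := Bool.rec (eT198 i) (eT199 i) (Nat.ble 208896 i)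
noncomputable def eT201 (i : Nat) : Nat := Bool.rec (eL206 i) (eL207 i) (Nat.ble 211968 i)
noncomputable def eT202 (i : Nat) : Nat := Bool.rec (eL208 i) (eL209 i) (Nat.ble 214016 i)
noncomputable def eT203 (i : Nat) : Nat := Bool.rec (eT201 i) (eT202 i) (Nat.ble 212992 i)
noncomputable def eT204 (i : Nat) : Nat := Bool.rec (eT200 i) (eT203 i) (Nat.ble 210944 i)
noncomputable def eT205 (i : Nat) : Nat := Bool.rec (eT197 i) (eT204 i) (Nat.ble 206848 i)
noncomputable def eT206 (i : Nat) : Nat := Bool.rec (eT191 i) (eT205 i) (Nat.ble 199680 i)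
noncomputable def eT207 (i : Nat) : Nat := Bool.rec (eL211 i) (eL212 i) (Nat.ble 217088 i)
noncomputable def eT208 (i : Nat) : Nat := Bool.rec (eL210 i) (eT207 i) (Nat.ble 216064 i)
noncomputable def eT209 (i : Nat) : Nat := Bool.rec (eL213 i) (eL214 i) (Nat.ble 219136 i)
noncomputable def eT210 (i : Nat) : Nat := Bool.rec (eL215 i) (eL216 i) (Nat.ble 221184 i)
noncomputable def eT211 (i : Nat) : Nat := Bool.rec (eT209 i) (eT210 i) (Nat.ble 220160 i)
noncomputable def eT212 (i : Nat) : Nat := Bool.rec (eT208 i) (eT211 i) (Nat.ble 218112 i)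
noncomputable def eT213 (i : Nat) : Nat := Bool.rec (eL217 i) (eL218 i) (Nat.ble 223232 i)
noncomputable def eT214 (i : Nat) : Nat := Bool.rec (eL219 i) (eL220 i) (Nat.ble 225280 i)
noncomputable def eT215 (i : Nat) : Nat := Bool.rec (eT213 i) (eT214 i) (Nat.ble 224256 i)
noncomputable def eT216 (i : Nat) : Nat := Bool.rec (eL221 i) (eL222 i) (Nat.ble 227328 i)
noncomputable def eT217 (i : Nat) : Nat := Bool.rec (eL223 i) (eL224 i) (Nat.ble 229376 i)
noncomputable def eT218 (i : Nat) : Nat := Bool.rec (eT216 i) (eT217 i) (Nat.ble 228352 i)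
noncomputable def eT219 (i : Nat) : Nat := Bool.rec (eT215 i) (eT218 i) (Nat.ble 226304 i)
noncomputable def eT220 (i : Nat) : Nat := Bool.rec (eT212 i) (eT219 i) (Nat.ble 222208 i)
noncomputable def eT221 (i : Nat) : Nat := Bool.rec (eL226 i) (eL227 i) (Nat.ble 232448 i)
noncomputable def eT222 (i : Nat) : Nat := Bool.rec (eL225 i) (eT221 i) (Nat.ble 231424 i)
noncomputable def eT223 (i : Nat) : Nat := Bool.rec (eL228 i) (eL229 i) (Nat.ble 234496 i)
noncomputable def eT224 (i : Nat) : Nat := Bool.rec (eL230 i) (eL231 i) (Nat.ble 236544 i)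
noncomputable def eT225 (i : Nat) : Nat := Bool.rec (eT223 i) (eT224 i) (Nat.ble 235520 i)
noncomputable def eT226 (i : Nat) : Nat := Bool.rec (eT222 i) (eT225 i) (Nat.ble 233472 i)
noncomputable def eT227 (i : Nat) : Nat := Bool.rec (eL232 i) (eL233 i) (Nat.ble 238592 i)
noncomputable def eT228 (i : Nat) : Nat := Bool.rec (eL234 i) (eL235 i) (Nat.ble 240640 i)
noncomputable def eT229 (i : Nat) : Nat := Bool.rec (eT227 i) (eT228 i) (Nat.ble 239616 i)
noncomputable def eT230 (i : Nat) : Nat := Bool.rec (eL236 i) (eL237 i) (Nat.ble 242688 i)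
noncomputable def eT231 (i : Nat) : Nat := Bool.rec (eL238 i) (eL239 i) (Nat.ble 244736 i)
noncomputable def eT232 (i : Nat) : Nat := Bool.rec (eT230 i) (eT231 i) (Nat.ble 243712 i)
noncomputable def eT233 (i : Nat) : Nat := Bool.rec (eT229 i) (eT232 i) (Nat.ble 241664 i)
noncomputable def eT234 (i : Nat) : Nat := Bool.rec (eT226 i) (eT233 i) (Nat.ble 237568 i)
noncomputable def eT235 (i : Nat) : Nat := Bool.rec (eT220 i) (eT234 i) (Nat.ble 230400 i)
noncomputable def eT236 (i : Nat) : Nat := Bool.rec (eT206 i) (eT235 i) (Nat.ble 215040 i)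
noncomputable def eT237 (i : Nat) : Nat := Bool.rec (eT177 i) (eT236 i) (Nat.ble 184320 i)
noncomputable def eT238 (i : Nat) : Nat := Bool.rec (eT118 i) (eT237 i) (Nat.ble 122880 i)
noncomputable def eT239 (i : Nat) : Nat := Bool.rec (eL241 i) (eL242 i) (Nat.ble 247808 i)
noncomputable def eT240 (i : Nat) : Nat := Bool.rec (eL240 i) (eT239 i) (Nat.ble 246784 i)
noncomputable def eT241 (i : Nat) : Nat := Bool.rec (eL243 i) (eL244 i) (Nat.ble 249856 i)
noncomputable def eT242 (i : Nat) : Nat := Bool.rec (eL245 i) (eL246 i) (Nat.ble 251904 i)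
noncomputable def eT243 (i : Nat) : Nat := Bool.rec (eT241 i) (eT242 i) (Nat.ble 250880 i)
noncomputable def eT244 (i : Nat) : Nat := Bool.rec (eT240 i) (eT243 i) (Nat.ble 248832 i)
noncomputable def eT245 (i : Nat) : Nat := Bool.rec (eL247 i) (eL248 i) (Nat.ble 253952 i)
noncomputable def eT246 (i : Nat) : Nat := Bool.rec (eL249 i) (eL250 i) (Nat.ble 256000 i)
noncomputable def eT247 (i : Nat) : Nat := Bool.rec (eT245 i) (eT246 i) (Nat.ble 254976 i)
noncomputable def eT248 (i : Nat) : Nat := Bool.rec (eL251 i) (eL252 i) (Nat.ble 258048 i)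
noncomputable def eT249 (i : Nat) : Nat := Bool.rec (eL253 i) (eL254 i) (Nat.ble 260096 i)
noncomputable def eT250 (i : Nat) : Nat := Bool.rec (eT248 i) (eT249 i) (Nat.ble 259072 i)
noncomputable def eT251 (i : Nat) : Nat := Bool.rec (eT247 i) (eT250 i) (Nat.ble 257024 i)
noncomputable def eT252 (i : Nat) : Nat := Bool.rec (eT244 i) (eT251 i) (Nat.ble 252928 i)
noncomputable def eT253 (i : Nat) : Nat := Bool.rec (eL256 i) (eL257 i) (Nat.ble 263168 i)
noncomputable def eT254 (i : Nat) : Nat := Bool.rec (eL255 i) (eT253 i) (Nat.ble 262144 i)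
noncomputable def eT255 (i : Nat) : Nat := Bool.rec (eL258 i) (eL259 i) (Nat.ble 265216 i)
noncomputable def eT256 (i : Nat) : Nat := Bool.rec (eL260 i) (eL261 i) (Nat.ble 267264 i)
noncomputable def eT257 (i : Nat) : Nat := Bool.rec (eT255 i) (eT256 i) (Nat.ble 266240 i)
noncomputable def eT258 (i : Nat) : Nat := Bool.rec (eT254 i) (eT257 i) (Nat.ble 264192 i)
noncomputable def eT259 (i : Nat) : Nat := Bool.rec (eL262 i) (eL263 i) (Nat.ble 269312 i)
noncomputable def eT260 (i : Nat) : Nat := Bool.rec (eL264 i) (eL265 i) (Nat.ble 271360 i)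
noncomputable def eT261 (i : Nat) : Nat := Bool.rec (eT259 i) (eT260 i) (Nat.ble 270336 i)
noncomputable def eT262 (i : Nat) : Nat := Bool.rec (eL266 i) (eL267 i) (Nat.ble 273408 i)
noncomputable def eT263 (i : Nat) : Nat := Bool.rec (eL268 i) (eL269 i) (Nat.ble 275456 i)
noncomputable def eT264 (i : Nat) : Nat := Bool.rec (eT262 i) (eT263 i) (Nat.ble 274432 i)
noncomputable def eT265 (i : Nat) : Nat := Bool.rec (eT261 i) (eT264 i) (Nat.ble 272384 i)
noncomputable def eT266 (i : Nat) : Nat := Bool.rec (eT258 i) (eT265 i) (Nat.ble 268288 i)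
noncomputable def eT267 (i : Nat) : Nat := Bool.rec (eT252 i) (eT266 i) (Nat.ble 261120 i)
noncomputable def eT268 (i : Nat) : Nat := Bool.rec (eL271 i) (eL272 i) (Nat.ble 278528 i)
noncomputable def eT269 (i : Nat) : Nat := Bool.rec (eL270 i) (eT268 i) (Nat.ble 277504 i)
noncomputable def eT270 (i : Nat) : Nat := Bool.rec (eL273 i) (eL274 i) (Nat.ble 280576 i)
noncomputable def eT271 (i : Nat) : Nat := Bool.rec (eL275 i) (eL276 i) (Nat.ble 282624 i)
noncomputable def eT272 (i : Nat) : Nat := Bool.rec (eT270 i) (eT271 i) (Nat.ble 281600 i)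
noncomputable def eT273 (i : Nat) : Nat := Bool.rec (eT269 i) (eT272 i) (Nat.ble 279552 i)
noncomputable def eT274 (i : Nat) : Nat := Bool.rec (eL277 i) (eL278 i) (Nat.ble 284672 i)
noncomputable def eT275 (i : Nat) : Nat := Bool.rec (eL279 i) (eL280 i) (Nat.ble 286720 i)
noncomputable def eT276 (i : Nat) : Nat := Bool.rec (eT274 i) (eT275 i) (Nat.ble 285696 i)
noncomputable def eT277 (i : Nat) : Nat := Bool.rec (eL281 i) (eL282 i) (Nat.ble 288768 i)
noncomputable def eT278 (i : Nat) : Nat := Bool.rec (eL283 i) (eL284 i) (Nat.ble 290816 i)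
noncomputable def eT279 (i : Nat) : Nat := Bool.rec (eT277 i) (eT278 i) (Nat.ble 289792 i)
noncomputable def eT280 (i : Nat) : Nat := Bool.rec (eT276 i) (eT279 i) (Nat.ble 287744 i)
noncomputable def eT281 (i : Nat) : Nat := Bool.rec (eT273 i) (eT280 i) (Nat.ble 283648 i)
noncomputable def eT282 (i : Nat) : Nat := Bool.rec (eL286 i) (eL287 i) (Nat.ble 293888 i)
noncomputable def eT283 (i : Nat) : Nat := Bool.rec (eL285 i) (eT282 i) (Nat.ble 292864 i)
noncomputable def eT284 (i : Nat) : Nat := Bool.rec (eL288 i) (eL289 i) (Nat.ble 295936 i)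
noncomputable def eT285 (i : Nat) : Nat := Bool.rec (eL290 i) (eL291 i) (Nat.ble 297984 i)
noncomputable def eT286 (i : Nat) : Nat := Bool.rec (eT284 i) (eT285 i) (Nat.ble 296960 i)
noncomputable def eT287 (i : Nat) : Nat := Bool.rec (eT283 i) (eT286 i) (Nat.ble 294912 i)
noncomputable def eT288 (i : Nat) : Nat := Bool.rec (eL292 i) (eL293 i) (Nat.ble 300032 i)
noncomputable def eT289 (i : Nat) : Nat := Bool.rec (eL294 i) (eL295 i) (Nat.ble 302080 i)
noncomputable def eT290 (i : Nat) : Nat := Bool.rec (eT288 i) (eT289 i) (Nat.ble 301056 i)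
noncomputable def eT291 (i : Nat) : Nat := Bool.rec (eL296 i) (eL297 i) (Nat.ble 304128 i)
noncomputable def eT292 (i : Nat) : Nat := Bool.rec (eL298 i) (eL299 i) (Nat.ble 306176 i)
noncomputable def eT293 (i : Nat) : Nat := Bool.rec (eT291 i) (eT292 i) (Nat.ble 305152 i)
noncomputable def eT294 (i : Nat) : Nat := Bool.rec (eT290 i) (eT293 i) (Nat.ble 303104 i)
noncomputable def eT295 (i : Nat) : Nat := Bool.rec (eT287 i) (eT294 i) (Nat.ble 299008 i)
noncomputable def eT296 (i : Nat) : Nat := Bool.rec (eT281 i) (eT295 i) (Nat.ble 291840 i)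
noncomputable def eT297 (i : Nat) : Nat := Bool.rec (eT267 i) (eT296 i) (Nat.ble 276480 i)
noncomputable def eT298 (i : Nat) : Nat := Bool.rec (eL301 i) (eL302 i) (Nat.ble 309248 i)
noncomputable def eT299 (i : Nat) : Nat := Bool.rec (eL300 i) (eT298 i) (Nat.ble 308224 i)
noncomputable def eT300 (i : Nat) : Nat := Bool.rec (eL303 i) (eL304 i) (Nat.ble 311296 i)
noncomputable def eT301 (i : Nat) : Nat := Bool.rec (eL305 i) (eL306 i) (Nat.ble 313344 i)
noncomputable def eT302 (i : Nat) : Nat := Bool.rec (eT300 i) (eT301 i) (Nat.ble 312320 i)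
noncomputable def eT303 (i : Nat) : Nat := Bool.rec (eT299 i) (eT302 i) (Nat.ble 310272 i)
noncomputable def eT304 (i : Nat) : Nat := Bool.rec (eL307 i) (eL308 i) (Nat.ble 315392 i)
noncomputable def eT305 (i : Nat) : Nat := Bool.rec (eL309 i) (eL310 i) (Nat.ble 317440 i)
noncomputable def eT306 (i : Nat) : Nat := Bool.rec (eT304 i) (eT305 i) (Nat.ble 316416 i)
noncomputable def eT307 (i : Nat) : Nat := Bool.rec (eL311 i) (eL312 i) (Nat.ble 319488 i)
noncomputable def eT308 (i : Nat) : Nat := Bool.rec (eL313 i) (eL314 i) (Nat.ble 321536 i)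
noncomputable def eT309 (i : Nat) : Nat := Bool.rec (eT307 i) (eT308 i) (Nat.ble 320512 i)
noncomputable def eT310 (i : Nat) : Nat := Bool.rec (eT306 i) (eT309 i) (Nat.ble 318464 i)
noncomputable def eT311 (i : Nat) : Nat := Bool.rec (eT303 i) (eT310 i) (Nat.ble 314368 i)
noncomputable def eT312 (i : Nat) : Nat := Bool.rec (eL316 i) (eL317 i) (Nat.ble 324608 i)
noncomputable def eT313 (i : Nat) : Nat := Bool.rec (eL315 i) (eT312 i) (Nat.ble 323584 i)
noncomputable def eT314 (i : Nat) : Nat := Bool.rec (eL318 i) (eL319 i) (Nat.ble 326656 i)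
noncomputable def eT315 (i : Nat) : Nat := Bool.rec (eL320 i) (eL321 i) (Nat.ble 328704 i)
noncomputable def eT316 (i : Nat) : Nat := Bool.rec (eT314 i) (eT315 i) (Nat.ble 327680 i)
noncomputable def eT317 (i : Nat) : Nat := Bool.rec (eT313 i) (eT316 i) (Nat.ble 325632 i)
noncomputable def eT318 (i : Nat) : Nat := Bool.rec (eL322 i) (eL323 i) (Nat.ble 330752 i)
noncomputable def eT319 (i : Nat) : Nat := Bool.rec (eL324 i) (eL325 i) (Nat.ble 332800 i)
noncomputable def eT320 (i : Nat) : Nat := Bool.rec (eT318 i) (eT319 i) (Nat.ble 331776 i)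
noncomputable def eT321 (i : Nat) : Nat := Bool.rec (eL326 i) (eL327 i) (Nat.ble 334848 i)
noncomputable def eT322 (i : Nat) : Nat := Bool.rec (eL328 i) (eL329 i) (Nat.ble 336896 i)
noncomputable def eT323 (i : Nat) : Nat := Bool.rec (eT321 i) (eT322 i) (Nat.ble 335872 i)
noncomputable def eT324 (i : Nat) : Nat := Bool.rec (eT320 i) (eT323 i) (Nat.ble 333824 i)
noncomputable def eT325 (i : Nat) : Nat := Bool.rec (eT317 i) (eT324 i) (Nat.ble 329728 i)
noncomputable def eT326 (i : Nat) : Nat := Bool.rec (eT311 i) (eT325 i) (Nat.ble 322560 i)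
noncomputable def eT327 (i : Nat) : Nat := Bool.rec (eL331 i) (eL332 i) (Nat.ble 339968 i)
noncomputable def eT328 (i : Nat) : Nat := Bool.rec (eL330 i) (eT327 i) (Nat.ble 338944 i)
noncomputable def eT329 (i : Nat) : Nat := Bool.rec (eL333 i) (eL334 i) (Nat.ble 342016 i)
noncomputable def eT330 (i : Nat) : Nat := Bool.rec (eL335 i) (eL336 i) (Nat.ble 344064 i)
noncomputable def eT331 (i : Nat) : Nat := Bool.rec (eT329 i) (eT330 i) (Nat.ble 343040 i)
noncomputable def eT332 (i : Nat) : Nat := Bool.rec (eT328 i) (eT331 i) (Nat.ble 340992 i)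
noncomputable def eT333 (i : Nat) : Nat := Bool.rec (eL337 i) (eL338 i) (Nat.ble 346112 i)
noncomputable def eT334 (i : Nat) : Nat := Bool.rec (eL339 i) (eL340 i) (Nat.ble 348160 i)
noncomputable def eT335 (i : Nat) : Nat := Bool.rec (eT333 i) (eT334 i) (Nat.ble 347136 i)
noncomputable def eT336 (i : Nat) : Nat := Bool.rec (eL341 i) (eL342 i) (Nat.ble 350208 i)
noncomputable def eT337 (i : Nat) : Nat := Bool.rec (eL343 i) (eL344 i) (Nat.ble 352256 i)
noncomputable def eT338 (i : Nat) : Nat := Bool.rec (eT336 i) (eT337 i) (Nat.ble 351232 i)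
noncomputable def eT339 (i : Nat) : Nat := Bool.rec (eT335 i) (eT338 i) (Nat.ble 349184 i)
noncomputable def eT340 (i : Nat) : Nat := Bool.rec (eT332 i) (eT339 i) (Nat.ble 345088 i)
noncomputable def eT341 (i : Nat) : Nat := Bool.rec (eL346 i) (eL347 i) (Nat.ble 355328 i)
noncomputable def eT342 (i : Nat) : Nat := Bool.rec (eL345 i) (eT341 i) (Nat.ble 354304 i)
noncomputable def eT343 (i : Nat) : Nat := Bool.rec (eL348 i) (eL349 i) (Nat.ble 357376 i)
noncomputable def eT344 (i : Nat) : Nat := Bool.rec (eL350 i) (eL351 i) (Nat.ble 359424 i)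
noncomputable def eT345 (i : Nat) : Nat := Bool.rec (eT343 i) (eT344 i) (Nat.ble 358400 i)
noncomputable def eT346 (i : Nat) : Nat := Bool.rec (eT342 i) (eT345 i) (Nat.ble 356352 i)
noncomputable def eT347 (i : Nat) : Nat := Bool.rec (eL352 i) (eL353 i) (Nat.ble 361472 i)
noncomputable def eT348 (i : Nat) : Nat := Bool.rec (eL354 i) (eL355 i) (Nat.ble 363520 i)
noncomputable def eT349 (i : Nat) : Nat := Bool.rec (eT347 i) (eT348 i) (Nat.ble 362496 i)
noncomputable def eT350 (i : Nat) : Nat := Bool.rec (eL356 i) (eL357 i) (Nat.ble 365568 i)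
noncomputable def eT351 (i : Nat) : Nat := Bool.rec (eL358 i) (eL359 i) (Nat.ble 367616 i)
noncomputable def eT352 (i : Nat) : Nat := Bool.rec (eT350 i) (eT351 i) (Nat.ble 366592 i)
noncomputable def eT353 (i : Nat) : Nat := Bool.rec (eT349 i) (eT352 i) (Nat.ble 364544 i)
noncomputable def eT354 (i : Nat) : Nat := Bool.rec (eT346 i) (eT353 i) (Nat.ble 360448 i)
noncomputable def eT355 (i : Nat) : Nat := Bool.rec (eT340 i) (eT354 i) (Nat.ble 353280 i)
noncomputable def eT356 (i : Nat) : Nat := Bool.rec (eT326 i) (eT355 i) (Nat.ble 337920 i)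
noncomputable def eT357 (i : Nat) : Nat := Bool.rec (eT297 i) (eT356 i) (Nat.ble 307200 i)
noncomputable def eT358 (i : Nat) : Nat := Bool.rec (eL361 i) (eL362 i) (Nat.ble 370688 i)
noncomputable def eT359 (i : Nat) : Nat := Bool.rec (eL360 i) (eT358 i) (Nat.ble 369664 i)
noncomputable def eT360 (i : Nat) : Nat := Bool.rec (eL363 i) (eL364 i) (Nat.ble 372736 i)
noncomputable def eT361 (i : Nat) : Nat := Bool.rec (eL365 i) (eL366 i) (Nat.ble 374784 i)
noncomputable def eT362 (i : Nat) : Nat := Bool.rec (eT360 i) (eT361 i) (Nat.ble 373760 i)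
noncomputable def eT363 (i : Nat) : Nat := Bool.rec (eT359 i) (eT362 i) (Nat.ble 371712 i)
noncomputable def eT364 (i : Nat) : Nat := Bool.rec (eL367 i) (eL368 i) (Nat.ble 376832 i)
noncomputable def eT365 (i : Nat) : Nat := Bool.rec (eL369 i) (eL370 i) (Nat.ble 378880 i)
noncomputable def eT366 (i : Nat) : Nat := Bool.rec (eT364 i) (eT365 i) (Nat.ble 377856 i)
noncomputable def eT367 (i : Nat) : Nat := Bool.rec (eL371 i) (eL372 i) (Nat.ble 380928 i)
noncomputable def eT368 (i : Nat) : Nat := Bool.rec (eL373 i) (eL374 i) (Nat.ble 382976 i)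
noncomputable def eT369 (i : Nat) : Nat := Bool.rec (eT367 i) (eT368 i) (Nat.ble 381952 i)
noncomputable def eT370 (i : Nat) : Nat := Bool.rec (eT366 i) (eT369 i) (Nat.ble 379904 i)
noncomputable def eT371 (i : Nat) : Nat := Bool.rec (eT363 i) (eT370 i) (Nat.ble 375808 i)
noncomputable def eT372 (i : Nat) : Nat := Bool.rec (eL376 i) (eL377 i) (Nat.ble 386048 i)
noncomputable def eT373 (i : Nat) : Nat := Bool.rec (eL375 i) (eT372 i) (Nat.ble 385024 i)
noncomputable def eT374 (i : Nat) : Nat := Bool.rec (eL378 i) (eL379 i) (Nat.ble 388096 i)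
noncomputable def eT375 (i : Nat) : Nat := Bool.rec (eL380 i) (eL381 i) (Nat.ble 390144 i)
noncomputable def eT376 (i : Nat) : Nat := Bool.rec (eT374 i) (eT375 i) (Nat.ble 389120 i)
noncomputable def eT377 (i : Nat) : Nat := Bool.rec (eT373 i) (eT376 i) (Nat.ble 387072 i)
noncomputable def eT378 (i : Nat) : Nat := Bool.rec (eL382 i) (eL383 i) (Nat.ble 392192 i)
noncomputable def eT379 (i : Nat) : Nat := Bool.rec (eL384 i) (eL385 i) (Nat.ble 394240 i)
noncomputable def eT380 (i : Nat) : Nat := Bool.rec (eT378 i) (eT379 i) (Nat.ble 393216 i)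
noncomputable def eT381 (i : Nat) : Nat := Bool.rec (eL386 i) (eL387 i) (Nat.ble 396288 i)
noncomputable def eT382 (i : Nat) : Nat := Bool.rec (eL388 i) (eL389 i) (Nat.ble 398336 i)
noncomputable def eT383 (i : Nat) : Nat := Bool.rec (eT381 i) (eT382 i) (Nat.ble 397312 i)
noncomputable def eT384 (i : Nat) : Nat := Bool.rec (eT380 i) (eT383 i) (Nat.ble 395264 i)
noncomputable def eT385 (i : Nat) : Nat := Bool.rec (eT377 i) (eT384 i) (Nat.ble 391168 i)
noncomputable def eT386 (i : Nat) : Nat := Bool.rec (eT371 i) (eT385 i) (Nat.ble 384000 i)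
noncomputable def eT387 (i : Nat) : Nat := Bool.rec (eL391 i) (eL392 i) (Nat.ble 401408 i)
noncomputable def eT388 (i : Nat) : Nat := Bool.rec (eL390 i) (eT387 i) (Nat.ble 400384 i)
noncomputable def eT389 (i : Nat) : Nat := Bool.rec (eL393 i) (eL394 i) (Nat.ble 403456 i)
noncomputable def eT390 (i : Nat) : Nat := Bool.rec (eL395 i) (eL396 i) (Nat.ble 405504 i)
noncomputable def eT391 (i : Nat) : Nat := Bool.rec (eT389 i) (eT390 i) (Nat.ble 404480 i)
noncomputable def eT392 (i : Nat) : Nat := Bool.rec (eT388 i) (eT391 i) (Nat.ble 402432 i)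
noncomputable def eT393 (i : Nat) : Nat := Bool.rec (eL397 i) (eL398 i) (Nat.ble 407552 i)
noncomputable def eT394 (i : Nat) : Nat := Bool.rec (eL399 i) (eL400 i) (Nat.ble 409600 i)
noncomputable def eT395 (i : Nat) : Nat := Bool.rec (eT393 i) (eT394 i) (Nat.ble 408576 i)
noncomputable def eT396 (i : Nat) : Nat := Bool.rec (eL401 i) (eL402 i) (Nat.ble 411648 i)
noncomputable def eT397 (i : Nat) : Nat := Bool.rec (eL403 i) (eL404 i) (Nat.ble 413696 i)
noncomputable def eT398 (i : Nat) : Nat := Bool.rec (eT396 i) (eT397 i) (Nat.ble 412672 i)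
noncomputable def eT399 (i : Nat) : Nat := Bool.rec (eT395 i) (eT398 i) (Nat.ble 410624 i)
noncomputable def eT400 (i : Nat) : Nat := Bool.rec (eT392 i) (eT399 i) (Nat.ble 406528 i)
noncomputable def eT401 (i : Nat) : Nat := Bool.rec (eL406 i) (eL407 i) (Nat.ble 416768 i)
noncomputable def eT402 (i : Nat) : Nat := Bool.rec (eL405 i) (eT401 i) (Nat.ble 415744 i)
noncomputable def eT403 (i : Nat) : Nat := Bool.rec (eL408 i) (eL409 i) (Nat.ble 418816 i)
noncomputable def eT404 (i : Nat) : Nat := Bool.rec (eL410 i) (eL411 i) (Nat.ble 420864 i)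
noncomputable def eT405 (i : Nat) : Nat := Bool.rec (eT403 i) (eT404 i) (Nat.ble 419840 i)
noncomputable def eT406 (i : Nat) : Nat := Bool.rec (eT402 i) (eT405 i) (Nat.ble 417792 i)
noncomputable def eT407 (i : Nat) : Nat := Bool.rec (eL412 i) (eL413 i) (Nat.ble 422912 i)
noncomputable def eT408 (i : Nat) : Nat := Bool.rec (eL414 i) (eL415 i) (Nat.ble 424960 i)
noncomputable def eT409 (i : Nat) : Nat := Bool.rec (eT407 i) (eT408 i) (Nat.ble 423936 i)
noncomputable def eT410 (i : Nat) : Nat := Bool.rec (eL416 i) (eL417 i) (Nat.ble 427008 i)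
noncomputable def eT411 (i : Nat) : Nat := Bool.rec (eL418 i) (eL419 i) (Nat.ble 429056 i)
noncomputable def eT412 (i : Nat) : Nat := Bool.rec (eT410 i) (eT411 i) (Nat.ble 428032 i)
noncomputable def eT413 (i : Nat) : Nat := Bool.rec (eT409 i) (eT412 i) (Nat.ble 425984 i)
noncomputable def eT414 (i : Nat) : Nat := Bool.rec (eT406 i) (eT413 i) (Nat.ble 421888 i)
noncomputable def eT415 (i : Nat) : Nat := Bool.rec (eT400 i) (eT414 i) (Nat.ble 414720 i)
noncomputable def eT416 (i : Nat) : Nat := Bool.rec (eT386 i) (eT415 i) (Nat.ble 399360 i)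
noncomputable def eT417 (i : Nat) : Nat := Bool.rec (eL421 i) (eL422 i) (Nat.ble 432128 i)
noncomputable def eT418 (i : Nat) : Nat := Bool.rec (eL420 i) (eT417 i) (Nat.ble 431104 i)
noncomputable def eT419 (i : Nat) : Nat := Bool.rec (eL423 i) (eL424 i) (Nat.ble 434176 i)
noncomputable def eT420 (i : Nat) : Nat := Bool.rec (eL425 i) (eL426 i) (Nat.ble 436224 i)
noncomputable def eT421 (i : Nat) : Nat := Bool.rec (eT419 i) (eT420 i) (Nat.ble 435200 i)
noncomputable def eT422 (i : Nat) : Nat := Bool.rec (eT418 i) (eT421 i) (Nat.ble 433152 i)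
noncomputable def eT423 (i : Nat) : Nat := Bool.rec (eL427 i) (eL428 i) (Nat.ble 438272 i)
noncomputable def eT424 (i : Nat) : Nat := Bool.rec (eL429 i) (eL430 i) (Nat.ble 440320 i)
noncomputable def eT425 (i : Nat) : Nat := Bool.rec (eT423 i) (eT424 i) (Nat.ble 439296 i)
noncomputable def eT426 (i : Nat) : Nat := Bool.rec (eL431 i) (eL432 i) (Nat.ble 442368 i)
noncomputable def eT427 (i : Nat) : Nat := Bool.rec (eL433 i) (eL434 i) (Nat.ble 444416 i)
noncomputable def eT428 (i : Nat) : Nat := Bool.rec (eT426 i) (eT427 i) (Nat.ble 443392 i)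
noncomputable def eT429 (i : Nat) : Nat := Bool.rec (eT425 i) (eT428 i) (Nat.ble 441344 i)
noncomputable def eT430 (i : Nat) : Nat := Bool.rec (eT422 i) (eT429 i) (Nat.ble 437248 i)
noncomputable def eT431 (i : Nat) : Nat := Bool.rec (eL436 i) (eL437 i) (Nat.ble 447488 i)
noncomputable def eT432 (i : Nat) : Nat := Bool.rec (eL435 i) (eT431 i) (Nat.ble 446464 i)
noncomputable def eT433 (i : Nat) : Nat := Bool.rec (eL438 i) (eL439 i) (Nat.ble 449536 i)
noncomputable def eT434 (i : Nat) : Nat := Bool.rec (eL440 i) (eL441 i) (Nat.ble 451584 i)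
noncomputable def eT435 (i : Nat) : Nat := Bool.rec (eT433 i) (eT434 i) (Nat.ble 450560 i)
noncomputable def eT436 (i : Nat) : Nat := Bool.rec (eT432 i) (eT435 i) (Nat.ble 448512 i)
noncomputable def eT437 (i : Nat) : Nat := Bool.rec (eL442 i) (eL443 i) (Nat.ble 453632 i)
noncomputable def eT438 (i : Nat) : Nat := Bool.rec (eL444 i) (eL445 i) (Nat.ble 455680 i)
noncomputable def eT439 (i : Nat) : Nat := Bool.rec (eT437 i) (eT438 i) (Nat.ble 454656 i)
noncomputable def eT440 (i : Nat) : Nat := Bool.rec (eL446 i) (eL447 i) (Nat.ble 457728 i)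
noncomputable def eT441 (i : Nat) : Nat := Bool.rec (eL448 i) (eL449 i) (Nat.ble 459776 i)
noncomputable def eT442 (i : Nat) : Nat := Bool.rec (eT440 i) (eT441 i) (Nat.ble 458752 i)
noncomputable def eT443 (i : Nat) : Nat := Bool.rec (eT439 i) (eT442 i) (Nat.ble 456704 i)
noncomputable def eT444 (i : Nat) : Nat := Bool.rec (eT436 i) (eT443 i) (Nat.ble 452608 i)
noncomputable def eT445 (i : Nat) : Nat := Bool.rec (eT430 i) (eT444 i) (Nat.ble 445440 i)
noncomputable def eT446 (i : Nat) : Nat := Bool.rec (eL451 i) (eL452 i) (Nat.ble 462848 i)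
noncomputable def eT447 (i : Nat) : Nat := Bool.rec (eL450 i) (eT446 i) (Nat.ble 461824 i)
noncomputable def eT448 (i : Nat) : Nat := Bool.rec (eL453 i) (eL454 i) (Nat.ble 464896 i)
noncomputable def eT449 (i : Nat) : Nat := Bool.rec (eL455 i) (eL456 i) (Nat.ble 466944 i)
noncomputable def eT450 (i : Nat) : Nat := Bool.rec (eT448 i) (eT449 i) (Nat.ble 465920 i)
noncomputable def eT451 (i : Nat) : Nat := Bool.rec (eT447 i) (eT450 i) (Nat.ble 463872 i)
noncomputable def eT452 (i : Nat) : Nat := Bool.rec (eL457 i) (eL458 i) (Nat.ble 468992 i)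
noncomputable def eT453 (i : Nat) : Nat := Bool.rec (eL459 i) (eL460 i) (Nat.ble 471040 i)
noncomputable def eT454 (i : Nat) : Nat := Bool.rec (eT452 i) (eT453 i) (Nat.ble 470016 i)
noncomputable def eT455 (i : Nat) : Nat := Bool.rec (eL461 i) (eL462 i) (Nat.ble 473088 i)
noncomputable def eT456 (i : Nat) : Nat := Bool.rec (eL463 i) (eL464 i) (Nat.ble 475136 i)
noncomputable def eT457 (i : Nat) : Nat := Bool.rec (eT455 i) (eT456 i) (Nat.ble 474112 i)
noncomputable def eT458 (i : Nat) : Nat := Bool.rec (eT454 i) (eT457 i) (Nat.ble 472064 i)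
noncomputable def eT459 (i : Nat) : Nat := Bool.rec (eT451 i) (eT458 i) (Nat.ble 467968 i)
noncomputable def eT460 (i : Nat) : Nat := Bool.rec (eL465 i) (eL466 i) (Nat.ble 477184 i)
noncomputable def eT461 (i : Nat) : Nat := Bool.rec (eL467 i) (eL468 i) (Nat.ble 479232 i)
noncomputable def eT462 (i : Nat) : Nat := Bool.rec (eT460 i) (eT461 i) (Nat.ble 478208 i)
noncomputable def eT463 (i : Nat) : Nat := Bool.rec (eL469 i) (eL470 i) (Nat.ble 481280 i)
noncomputable def eT464 (i : Nat) : Nat := Bool.rec (eL471 i) (eL472 i) (Nat.ble 483328 i)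
noncomputable def eT465 (i : Nat) : Nat := Bool.rec (eT463 i) (eT464 i) (Nat.ble 482304 i)
noncomputable def eT466 (i : Nat) : Nat := Bool.rec (eT462 i) (eT465 i) (Nat.ble 480256 i)
noncomputable def eT467 (i : Nat) : Nat := Bool.rec (eL473 i) (eL474 i) (Nat.ble 485376 i)
noncomputable def eT468 (i : Nat) : Nat := Bool.rec (eL475 i) (eL476 i) (Nat.ble 487424 i)
noncomputable def eT469 (i : Nat) : Nat := Bool.rec (eT467 i) (eT468 i) (Nat.ble 486400 i)
noncomputable def eT470 (i : Nat) : Nat := Bool.rec (eL477 i) (eL478 i) (Nat.ble 489472 i)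
noncomputable def eT471 (i : Nat) : Nat := Bool.rec (eL479 i) (eL480 i) (Nat.ble 491520 i)
noncomputable def eT472 (i : Nat) : Nat := Bool.rec (eT470 i) (eT471 i) (Nat.ble 490496 i)
noncomputable def eT473 (i : Nat) : Nat := Bool.rec (eT469 i) (eT472 i) (Nat.ble 488448 i)
noncomputable def eT474 (i : Nat) : Nat := Bool.rec (eT466 i) (eT473 i) (Nat.ble 484352 i)
noncomputable def eT475 (i : Nat) : Nat := Bool.rec (eT459 i) (eT474 i) (Nat.ble 476160 i)
noncomputable def eT476 (i : Nat) : Nat := Bool.rec (eT445 i) (eT475 i) (Nat.ble 460800 i)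
noncomputable def eT477 (i : Nat) : Nat := Bool.rec (eT416 i) (eT476 i) (Nat.ble 430080 i)
noncomputable def eT478 (i : Nat) : Nat := Bool.rec (eT357 i) (eT477 i) (Nat.ble 368640 i)
noncomputable def eT479 (i : Nat) : Nat := Bool.rec (eT238 i) (eT478 i) (Nat.ble 245760 i)
/-- the entry of an unknown -/
noncomputable def ent (i : Nat) : Nat := eT479 i

end Cfsg.Agent.Lib.Helper1.Co1Mu.P5
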