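import Cfsg.Agent.Lib.Helper1.Co1Mu.PiT
import Cfsg.Agent.Lib.Helper4.Sparse.Tree
import Cfsg.Agent.Lib.Helper1.Co1Mu.P5.ParT
import Cfsg.Agent.Lib.Helper1.Co1Mu.P5.Ent
set_option autoImplicit false

/-! # The sparse certificate P5 (prime 5, modulo 5): the relations (the first 5 normalise the lifts of the letters), the data, the certificate -/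

namespace Cfsg.Agent.Lib.Helper1.Co1Mu.P5

open Cfsg.Agent.Lib.Helper1.StemSA Cfsg.Agent.Lib.Helper4.Sparse

/-- the tables -/
noncomputable def piT : ℕ → ℕ → ℕ := Cfsg.Agent.Lib.Helper1.Co1Mu.piT

/-- the relations -/
def rels : List (List ℕ × List ℕ) :=
  [([0, 0], []),
  ([1, 1], []),
  ([2, 2], []),
  ([3, 3], []),
  ([4, 4], []),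
  ([3, 2], [2, 3]),
  ([4, 0], [0, 4]),
  ([4, 1], [1, 4]),
  ([4, 2], [2, 4]),
  ([3, 1, 3], [1, 3, 1]),
  ([2, 0, 3, 0], [0, 3, 0, 2]),
  ([2, 1, 2, 1], [1, 2, 1, 2]),
  ([3, 0, 2, 0], [0, 2, 0, 3]),
  ([3, 0, 3, 0], [0, 3, 0, 3]),
  ([3, 1, 2, 3], [1, 3, 1, 2]),
  ([3, 4, 3, 0], [0, 3, 4, 3]),
  ([4, 3, 0, 3], [3, 0, 3, 4]),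
  ([2, 0, 4, 3, 0], [0, 4, 3, 0, 2]),
  ([3, 0, 2, 3, 0], [0, 2, 3, 0, 3]),
  ([3, 0, 3, 4, 3], [4, 3, 0]),
  ([3, 0, 4, 3, 0], [0, 3, 0, 4, 3]),
  ([3, 1, 2, 1, 2], [2, 3, 1, 2, 1]),
  ([4, 3, 0, 2, 3], [3, 0, 2, 3, 4]),
  ([1, 0, 1, 0, 1, 0], [0, 1, 0, 1, 0, 1]),
  ([1, 3, 0, 3, 1, 0], [0, 1, 3, 0, 3, 1]),
  ([2, 0, 2, 0, 2, 0], [0, 2, 0, 2, 0, 2]),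
  ([2, 0, 2, 1, 2, 0], [1, 2, 0, 2, 1, 2]),
  ([2, 1, 2, 0, 2, 1], [0, 2, 1, 2, 0, 2]),
  ([3, 0, 2, 3, 4, 3], [4, 3, 0, 2]),
  ([3, 0, 2, 4, 3, 0], [0, 2, 3, 0, 4, 3]),
  ([3, 0, 3, 1, 0, 1], [1, 0, 1, 3, 0, 3]),
  ([3, 1, 0, 1, 3, 0], [0, 3, 1, 0, 1, 3]),
  ([3, 1, 0, 2, 0, 3], [1, 3, 1, 0, 2, 0]),
  ([3, 1, 0, 3, 0, 3], [1, 3, 1, 0, 3, 0]),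
  ([3, 1, 0, 3, 4, 3], [1, 3, 1, 4, 3, 0]),
  ([3, 1, 2, 1, 3, 1], [1, 3, 1, 2, 1, 3]),
  ([4, 3, 0, 1, 3, 1], [3, 0, 3, 1, 4, 3]),
  ([4, 3, 4, 3, 4, 3], [3, 4, 3, 4, 3, 4]),
  ([1, 0, 1, 2, 0, 2, 0], [0, 2, 0, 2, 1, 0, 1]),
  ([1, 0, 1, 3, 0, 3, 1], [3, 0, 3, 1, 0]),
  ([1, 0, 2, 0, 2, 1, 0], [0, 1, 2, 0, 2, 0, 1]),
  ([1, 2, 0, 2, 0, 1, 0], [0, 1, 0, 2, 0, 2, 1]),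
  ([2, 0, 1, 0, 1, 2, 0], [0, 2, 1, 0, 1, 0, 2]),
  ([2, 0, 2, 0, 1, 0, 1], [1, 0, 1, 0, 2, 0, 2]),
  ([2, 0, 2, 0, 2, 3, 0], [0, 2, 0, 2, 3, 0, 2]),
  ([2, 0, 2, 1, 0, 1, 0], [0, 1, 0, 1, 2, 0, 2]),
  ([2, 1, 0, 1, 0, 2, 0], [0, 2, 0, 1, 0, 1, 2]),
  ([2, 1, 0, 2, 1, 2, 0], [1, 2, 1, 0, 2, 1, 2]),
  ([2, 1, 2, 0, 1, 2, 1], [0, 2, 1, 2, 0, 1, 2]),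
  ([3, 0, 1, 0, 1, 3, 0], [0, 3, 0, 1, 0, 1, 3]),
  ([3, 0, 1, 3, 0, 3, 1], [1, 3, 1, 0, 3, 1, 0]),
  ([3, 0, 2, 1, 2, 0, 2], [2, 3, 1, 2, 0, 2, 1]),
  ([3, 0, 3, 1, 0, 3, 1], [1, 0, 1, 3, 0, 1, 3]),
  ([3, 0, 3, 1, 4, 3, 1], [4, 3, 0, 1, 3]),
  ([3, 1, 0, 1, 0, 3, 0], [0, 3, 1, 0, 1, 0, 3]),
  ([3, 1, 0, 1, 4, 3, 0], [0, 3, 1, 0, 1, 4, 3]),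
  ([3, 1, 0, 2, 0, 2, 3], [1, 3, 1, 0, 2, 0, 2]),
  ([3, 1, 0, 2, 3, 0, 3], [1, 3, 1, 0, 2, 3, 0]),
  ([3, 1, 0, 2, 3, 4, 3], [1, 3, 1, 4, 3, 0, 2]),
  ([3, 1, 0, 3, 0, 2, 3], [1, 3, 1, 0, 3, 0, 2]),
  ([3, 1, 0, 3, 0, 4, 3], [1, 3, 1, 0, 4, 3, 0]),
  ([3, 1, 0, 3, 1, 0, 1], [1, 3, 0, 1, 3, 0, 3]),
  ([3, 1, 2, 0, 2, 0, 3], [1, 3, 1, 2, 0, 2, 0]),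
  ([3, 1, 2, 0, 2, 1, 2], [2, 3, 0, 2, 1, 2, 0]),
  ([3, 1, 2, 0, 3, 4, 3], [1, 3, 1, 2, 4, 3, 0]),
  ([4, 3, 0, 2, 1, 3, 1], [3, 0, 2, 3, 1, 4, 3]),
  ([4, 3, 0, 4, 3, 4, 3], [3, 0, 4, 3, 4, 3, 4]),
  ([0, 1, 0, 3, 0, 1, 3, 1], [3, 0, 3, 1, 0, 3, 0]),
  ([0, 1, 0, 3, 0, 3, 1, 0], [3, 0, 1, 3, 1, 0, 3]),
  ([0, 1, 2, 1, 0, 3, 0, 2], [3, 0, 3, 1, 2, 1, 3]),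
  ([0, 1, 2, 1, 0, 3, 0, 3], [3, 0, 2, 3, 1, 2, 1]),
  ([0, 1, 2, 1, 2, 3, 0, 3], [3, 0, 3, 1, 2, 1, 0]),
  ([0, 1, 3, 1, 0, 3, 0, 1], [3, 0, 1, 0, 3, 0, 3]),
  ([0, 2, 3, 1, 2, 1, 0, 3], [3, 0, 1, 2, 1, 3, 0]),
  ([0, 2, 3, 1, 2, 1, 3, 0], [3, 0, 1, 2, 1, 0, 3]),
  ([0, 3, 0, 1, 0, 3, 0, 1], [3, 1, 0, 3, 0, 1, 3]),
  ([0, 3, 0, 1, 0, 3, 0, 3], [1, 3, 1, 0, 3, 0, 1]),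
  ([0, 3, 0, 1, 2, 1, 0, 3], [2, 3, 1, 2, 1, 3, 0]),
  ([0, 3, 0, 1, 2, 1, 2, 0], [3, 1, 2, 1, 3, 0, 3]),
  ([0, 3, 0, 1, 2, 1, 2, 3], [3, 1, 2, 1, 0, 3, 0]),
  ([0, 3, 0, 1, 2, 1, 3, 0], [2, 3, 1, 2, 1, 0, 3]),
  ([0, 3, 0, 1, 3, 1, 0, 3], [1, 0, 3, 0, 3, 1, 0]),
  ([0, 3, 0, 2, 3, 1, 2, 1], [1, 2, 1, 0, 3, 0, 3]),
  ([0, 3, 0, 3, 1, 0, 3, 0], [1, 0, 3, 0, 1, 3, 1]),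
  ([0, 3, 0, 3, 1, 2, 1, 0], [1, 2, 1, 2, 3, 0, 3]),
  ([0, 3, 0, 3, 1, 2, 1, 3], [1, 2, 1, 0, 3, 0, 2]),
  ([0, 3, 1, 0, 3, 0, 1, 3], [3, 0, 1, 0, 3, 0, 1]),
  ([0, 3, 1, 2, 1, 0, 3, 0], [3, 0, 1, 2, 1, 2, 3]),
  ([0, 3, 1, 2, 1, 3, 0, 3], [3, 0, 1, 2, 1, 2, 0]),
  ([1, 0, 1, 0, 2, 0, 2, 1], [2, 0, 2, 0, 1, 0]),
  ([1, 0, 1, 3, 0, 1, 3, 1], [3, 0, 3, 1, 0, 3]),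
  ([1, 0, 3, 0, 1, 0, 3, 0], [3, 1, 0, 3, 0, 1, 3]),
  ([1, 0, 3, 0, 1, 3, 0, 3], [3, 1, 0, 3, 0, 1, 0]),
  ([1, 0, 3, 0, 1, 3, 1, 0], [0, 3, 0, 3, 1, 0, 3]),
  ([1, 0, 3, 0, 2, 3, 1, 2], [2, 1, 0, 3, 0, 3, 1]),
  ([1, 0, 3, 0, 3, 1, 0, 3], [0, 3, 0, 1, 3, 1, 0]),
  ([1, 0, 3, 0, 3, 1, 2, 1], [2, 1, 0, 3, 0, 2, 3]),
  ([1, 2, 1, 0, 3, 0, 2, 3], [0, 3, 0, 3, 1, 2, 1]),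
  ([1, 2, 1, 0, 3, 0, 3, 1], [0, 3, 0, 2, 3, 1, 2]),
  ([1, 3, 1, 0, 3, 0, 1, 0], [0, 3, 0, 1, 3, 0, 3]),
  ([1, 3, 1, 0, 3, 0, 1, 3], [0, 3, 0, 1, 0, 3, 0]),
  ([2, 0, 1, 0, 1, 2, 3, 0], [0, 2, 1, 0, 1, 3, 0, 2]),
  ([2, 0, 1, 0, 1, 3, 0, 3], [0, 3, 0, 2, 3, 1, 0, 1]),
  ([2, 0, 2, 0, 2, 4, 3, 0], [0, 2, 0, 2, 4, 3, 0, 2]),
  ([2, 0, 2, 1, 0, 1, 3, 0], [0, 1, 0, 1, 2, 3, 0, 2]),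
  ([2, 0, 2, 1, 0, 3, 0, 2], [1, 2, 0, 2, 1, 2, 3, 0]),
  ([2, 0, 2, 1, 2, 3, 0, 2], [1, 2, 0, 2, 1, 0, 3, 0]),
  ([2, 0, 2, 3, 1, 0, 1, 0], [0, 3, 1, 0, 1, 2, 0, 2]),
  ([2, 0, 2, 3, 1, 2, 0, 2], [0, 3, 0, 1, 2, 0, 2, 1]),
  ([2, 0, 3, 1, 0, 1, 2, 0], [0, 2, 3, 1, 0, 1, 0, 2]),
  ([2, 1, 0, 3, 0, 2, 3, 1], [1, 0, 3, 0, 3, 1, 2]),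
  ([2, 1, 0, 3, 0, 3, 1, 2], [1, 0, 3, 0, 2, 3, 1]),
  ([2, 3, 1, 0, 1, 0, 2, 0], [0, 2, 0, 3, 1, 0, 1, 2]),
  ([2, 3, 1, 2, 1, 0, 3, 0], [0, 3, 0, 1, 2, 1, 3]),
  ([2, 3, 1, 2, 1, 3, 0, 3], [0, 3, 0, 1, 2, 1, 0]),
  ([3, 0, 1, 0, 1, 0, 3, 0], [0, 3, 0, 1, 0, 1, 0, 3]),
  ([3, 0, 1, 0, 1, 2, 0, 2], [2, 3, 0, 2, 1, 0, 1, 0]),
  ([3, 0, 1, 0, 1, 4, 3, 0], [0, 3, 0, 1, 0, 1, 4, 3]),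
  ([3, 0, 1, 0, 3, 0, 1, 0], [0, 1, 0, 3, 0, 1, 0, 3]),
  ([3, 0, 1, 0, 3, 0, 1, 3], [0, 3, 1, 0, 3, 0, 1]),
  ([3, 0, 1, 0, 3, 0, 3, 1], [0, 1, 3, 1, 0, 3, 0]),
  ([3, 0, 1, 2, 0, 2, 1, 2], [0, 2, 0, 2, 3, 1, 2, 0]),
  ([3, 0, 1, 2, 1, 0, 3, 0], [0, 2, 3, 1, 2, 1, 3]),
  ([3, 0, 1, 2, 1, 2, 0, 3], [0, 3, 1, 2, 1, 3, 0]),
  ([3, 0, 1, 2, 1, 2, 3, 0], [0, 3, 1, 2, 1, 0, 3]),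
  ([3, 0, 1, 2, 1, 3, 0, 3], [0, 2, 3, 1, 2, 1, 0]),
  ([3, 0, 1, 3, 0, 1, 3, 1], [1, 3, 1, 0, 3, 1, 0, 3]),
  ([3, 0, 1, 3, 1, 0, 3, 0], [0, 1, 0, 3, 0, 3, 1]),
  ([3, 0, 2, 1, 0, 1, 0, 2], [2, 3, 0, 1, 0, 1, 2, 0]),
  ([3, 0, 2, 1, 0, 1, 3, 0], [0, 2, 3, 0, 1, 0, 1, 3]),
  ([3, 0, 2, 1, 2, 0, 1, 2], [2, 3, 1, 2, 0, 1, 2, 1]),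
  ([3, 0, 2, 3, 1, 0, 1, 3], [0, 2, 0, 1, 0, 1, 3, 0]),
  ([3, 0, 2, 3, 1, 2, 1, 0], [0, 1, 2, 1, 3, 0, 3]),
  ([3, 0, 2, 3, 1, 2, 1, 3], [0, 1, 2, 1, 0, 3, 0]),
  ([3, 0, 2, 3, 1, 4, 3, 1], [4, 3, 0, 2, 1, 3]),
  ([3, 0, 3, 1, 0, 3, 0, 1], [0, 1, 0, 3, 0, 1, 3]),
  ([3, 0, 3, 1, 0, 4, 3, 1], [1, 0, 1, 4, 3, 0, 1, 3]),
  ([3, 0, 3, 1, 2, 1, 0, 3], [0, 1, 2, 1, 2, 3, 0]),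
  ([3, 0, 3, 1, 2, 1, 3, 0], [0, 1, 2, 1, 2, 0, 3]),
  ([3, 1, 0, 1, 0, 2, 0, 2], [2, 0, 2, 0, 3, 1, 0, 1]),
  ([3, 1, 0, 1, 0, 2, 0, 3], [0, 3, 1, 0, 1, 2, 3, 0]),
  ([3, 1, 0, 1, 0, 2, 3, 0], [0, 3, 1, 0, 1, 2, 0, 3]),
  ([3, 1, 0, 1, 0, 4, 3, 0], [0, 3, 1, 0, 1, 0, 4, 3]),
  ([3, 1, 0, 1, 2, 3, 0, 3], [0, 3, 1, 0, 1, 0, 2, 0]),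
  ([3, 1, 0, 2, 0, 1, 3, 1], [1, 3, 1, 0, 2, 0, 1, 3]),
  ([3, 1, 0, 2, 1, 2, 0, 2], [2, 3, 1, 2, 1, 0, 2, 1]),
  ([3, 1, 0, 2, 3, 0, 2, 3], [1, 3, 1, 0, 2, 3, 0, 2]),
  ([3, 1, 0, 2, 3, 0, 4, 3], [1, 3, 1, 0, 2, 4, 3, 0]),
  ([3, 1, 0, 3, 0, 1, 0, 3], [1, 0, 3, 0, 1, 3, 0]),
  ([3, 1, 0, 3, 0, 1, 3, 0], [1, 0, 3, 0, 1, 0, 3]),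
  ([3, 1, 0, 3, 0, 1, 3, 1], [0, 3, 0, 1, 0, 3, 0]),
  ([3, 1, 0, 3, 0, 2, 4, 3], [1, 3, 1, 0, 4, 3, 0, 2]),
  ([3, 1, 0, 3, 1, 0, 3, 1], [1, 3, 0, 1, 3, 0, 1, 3]),
  ([3, 1, 0, 3, 1, 4, 3, 1], [1, 3, 1, 4, 3, 0, 1, 3]),
  ([3, 1, 2, 0, 1, 2, 1, 2], [2, 3, 0, 2, 1, 2, 0, 1]),
  ([3, 1, 2, 0, 2, 0, 2, 3], [1, 3, 1, 2, 0, 2, 0, 2]),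
  ([3, 1, 2, 0, 2, 3, 0, 3], [1, 3, 1, 2, 0, 2, 3, 0]),
  ([3, 1, 2, 0, 2, 3, 4, 3], [1, 3, 1, 2, 4, 3, 0, 2]),
  ([3, 1, 2, 1, 0, 2, 1, 2], [2, 3, 1, 0, 2, 1, 2, 0]),
  ([3, 1, 2, 1, 0, 3, 0, 2], [0, 3, 0, 1, 2, 1, 3]),
  ([3, 1, 2, 1, 0, 3, 0, 3], [0, 3, 0, 1, 2, 1, 2]),
  ([4, 3, 0, 2, 4, 3, 4, 3], [3, 0, 2, 4, 3, 4, 3, 4]),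
  ([4, 3, 4, 3, 1, 4, 3, 1], [3, 4, 3, 4, 3, 1, 4, 3]),
  ([0, 1, 0, 1, 0, 1, 3, 0, 1], [3, 0, 1, 3, 1, 0, 1, 3]),
  ([0, 1, 0, 1, 0, 1, 3, 0, 3], [3, 0, 1, 3, 1, 0, 3, 1]),
  ([0, 1, 0, 1, 0, 3, 0, 1, 3], [1, 3, 0, 1, 3, 1, 0, 1]),
  ([0, 1, 0, 1, 0, 3, 0, 3, 1], [1, 3, 0, 1, 3, 1, 0, 3]),
  ([0, 1, 0, 3, 0, 3, 1, 2, 0], [3, 0, 1, 3, 1, 2, 0, 3]),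
  ([0, 1, 0, 3, 0, 3, 1, 4, 3], [3, 0, 3, 1, 0, 4, 3, 0]),
  ([0, 1, 2, 1, 0, 3, 0, 1, 3], [3, 0, 2, 1, 3, 1, 2, 1]),
  ([0, 1, 2, 1, 0, 4, 3, 0, 2], [3, 0, 3, 1, 2, 1, 4, 3]),
  ([0, 1, 2, 1, 2, 3, 0, 2, 3], [3, 0, 3, 1, 2, 1, 0, 2]),
  ([0, 1, 3, 0, 1, 3, 1, 0, 1], [1, 0, 1, 0, 3, 0, 1, 3]),
  ([0, 1, 3, 0, 1, 3, 1, 0, 3], [1, 0, 1, 0, 3, 0, 3, 1]),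
  ([0, 1, 3, 1, 0, 1, 3, 1, 0], [3, 0, 1, 0, 1, 0, 1, 3]),
  ([0, 1, 3, 1, 0, 3, 1, 0, 3], [3, 1, 0, 1, 0, 1, 3, 0]),
  ([0, 1, 4, 3, 1, 0, 3, 0, 1], [4, 3, 0, 1, 0, 3, 0, 3]),
  ([0, 2, 1, 0, 3, 0, 1, 3, 1], [3, 0, 2, 3, 1, 0, 3, 0]),
  ([0, 2, 1, 0, 3, 0, 3, 1, 0], [3, 0, 2, 1, 3, 1, 0, 3]),
  ([0, 2, 1, 3, 1, 0, 3, 0, 1], [3, 0, 2, 1, 0, 3, 0, 3]),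
  ([0, 2, 3, 1, 0, 3, 0, 1, 3], [3, 0, 2, 1, 0, 3, 0, 1]),
  ([0, 2, 3, 1, 2, 1, 0, 2, 3], [3, 0, 1, 2, 1, 3, 0, 2]),
  ([0, 2, 3, 1, 2, 1, 0, 4, 3], [3, 0, 1, 2, 1, 4, 3, 0]),
  ([0, 2, 3, 1, 2, 1, 4, 3, 0], [3, 0, 1, 2, 1, 0, 4, 3]),
  ([0, 2, 4, 3, 1, 2, 1, 0, 3], [4, 3, 0, 1, 2, 1, 3, 0]),
  ([0, 2, 4, 3, 1, 2, 1, 3, 0], [4, 3, 0, 1, 2, 1, 0, 3]),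
  ([0, 3, 0, 1, 0, 1, 0, 1, 3], [1, 3, 1, 0, 1, 3, 1, 0]),
  ([0, 3, 0, 1, 0, 3, 0, 2, 3], [1, 3, 1, 0, 3, 0, 1, 2]),
  ([0, 3, 0, 1, 0, 4, 3, 0, 1], [3, 1, 0, 4, 3, 0, 1, 3]),
  ([0, 3, 0, 1, 2, 1, 0, 2, 3], [2, 3, 1, 2, 1, 3, 0, 2]),
  ([0, 3, 0, 1, 2, 1, 0, 4, 3], [2, 3, 1, 2, 1, 4, 3, 0]),
  ([0, 3, 0, 1, 2, 1, 2, 4, 3], [3, 1, 2, 1, 0, 4, 3, 0]),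
  ([0, 3, 0, 1, 2, 1, 4, 3, 0], [2, 3, 1, 2, 1, 0, 4, 3]),
  ([0, 3, 0, 1, 3, 1, 0, 1, 3], [1, 0, 1, 0, 1, 3, 0, 1]),
  ([0, 3, 0, 1, 3, 1, 0, 2, 3], [1, 0, 3, 0, 3, 1, 0, 2]),
  ([0, 3, 0, 1, 3, 1, 2, 0, 3], [1, 0, 3, 0, 3, 1, 2, 0]),
  ([0, 3, 0, 1, 3, 1, 2, 1, 3], [1, 2, 1, 0, 3, 0, 2, 1]),
  ([0, 3, 0, 2, 1, 0, 3, 0, 1], [2, 3, 1, 0, 3, 0, 1, 3]),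
  ([0, 3, 0, 2, 1, 0, 3, 0, 3], [2, 1, 3, 1, 0, 3, 0, 1]),
  ([0, 3, 0, 2, 1, 3, 1, 0, 3], [2, 1, 0, 3, 0, 3, 1, 0]),
  ([0, 3, 0, 2, 1, 3, 1, 2, 1], [1, 2, 1, 0, 3, 0, 1, 3]),
  ([0, 3, 0, 2, 3, 1, 0, 3, 0], [2, 1, 0, 3, 0, 1, 3, 1]),
  ([0, 3, 0, 3, 1, 0, 4, 3, 0], [1, 0, 3, 0, 3, 1, 4, 3]),
  ([0, 3, 0, 3, 1, 2, 1, 4, 3], [1, 2, 1, 0, 4, 3, 0, 2]),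
  ([0, 3, 1, 0, 1, 0, 1, 3, 0], [1, 3, 1, 0, 3, 1, 0, 3]),
  ([0, 3, 1, 0, 3, 0, 1, 2, 3], [3, 0, 1, 0, 3, 0, 1, 2]),
  ([0, 3, 1, 0, 4, 3, 0, 1, 3], [3, 0, 1, 0, 4, 3, 0, 1]),
  ([0, 3, 1, 2, 1, 0, 4, 3, 0], [3, 0, 1, 2, 1, 2, 4, 3]),
  ([0, 3, 1, 2, 1, 3, 0, 2, 3], [3, 0, 1, 2, 1, 2, 0, 2]),
  ([0, 4, 3, 0, 1, 0, 3, 0, 1], [4, 3, 1, 0, 3, 0, 1, 3]),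
  ([0, 4, 3, 0, 1, 0, 3, 0, 3], [1, 4, 3, 1, 0, 3, 0, 1]),
  ([0, 4, 3, 0, 1, 2, 1, 0, 3], [2, 4, 3, 1, 2, 1, 3, 0]),
  ([0, 4, 3, 0, 1, 2, 1, 2, 0], [4, 3, 1, 2, 1, 3, 0, 3]),
  ([0, 4, 3, 0, 1, 2, 1, 2, 3], [4, 3, 1, 2, 1, 0, 3, 0]),
  ([0, 4, 3, 0, 1, 2, 1, 3, 0], [2, 4, 3, 1, 2, 1, 0, 3]),
  ([0, 4, 3, 1, 0, 3, 0, 1, 3], [4, 3, 0, 1, 0, 3, 0, 1]),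
  ([0, 4, 3, 1, 2, 1, 0, 3, 0], [4, 3, 0, 1, 2, 1, 2, 3]),
  ([0, 4, 3, 1, 2, 1, 3, 0, 3], [4, 3, 0, 1, 2, 1, 2, 0]),
  ([1, 0, 1, 0, 1, 2, 0, 2, 1], [0, 1, 0, 2, 0, 2, 0, 1, 0]),
  ([1, 0, 1, 0, 1, 3, 0, 1, 3], [0, 3, 0, 1, 3, 1, 0, 1]),
  ([1, 0, 1, 0, 2, 0, 2, 0, 1], [0, 1, 0, 1, 2, 0, 2, 1, 0]),
  ([1, 0, 1, 0, 2, 0, 2, 0, 2], [0, 2, 0, 2, 1, 0, 1, 2, 0]),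
  ([1, 0, 1, 0, 2, 1, 0, 1, 0], [0, 2, 1, 0, 1, 2, 3, 0, 3]),
  ([1, 0, 1, 0, 2, 1, 0, 1, 2], [0, 2, 1, 0, 1, 0, 3, 0, 3]),
  ([1, 0, 1, 0, 2, 1, 0, 1, 3], [0, 2, 1, 0, 1, 0, 3, 0, 2]),
  ([1, 0, 1, 0, 2, 1, 3, 0, 2], [0, 2, 1, 3, 0, 2, 1, 3, 1]),
  ([1, 0, 1, 0, 2, 1, 3, 0, 3], [0, 2, 1, 3, 0, 2, 3, 1, 2]),
  ([1, 0, 1, 0, 2, 3, 0, 3, 1], [0, 2, 1, 0, 1, 2, 0, 1, 0]),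
  ([1, 0, 1, 2, 0, 1, 0, 1, 0], [0, 3, 0, 2, 3, 1, 0, 1, 2]),
  ([1, 0, 1, 2, 0, 2, 1, 0, 1], [0, 1, 0, 1, 0, 2, 0, 2, 0]),
  ([1, 0, 1, 2, 3, 0, 2, 3, 1], [0, 2, 0, 2, 3, 0, 3, 1, 0]),
  ([1, 0, 1, 3, 1, 0, 3, 1, 0], [3, 1, 0, 3, 0, 1, 0, 1]),
  ([1, 0, 2, 0, 2, 0, 1, 0, 2], [0, 2, 0, 2, 0, 1, 0, 2, 0]),
  ([1, 0, 2, 0, 2, 3, 0, 3, 1], [0, 1, 2, 3, 0, 2, 3, 1, 0]),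
  ([1, 0, 2, 1, 0, 1, 0, 3, 0], [0, 1, 0, 2, 1, 0, 1, 2, 3]),
  ([1, 0, 2, 1, 0, 1, 2, 0, 1], [0, 1, 0, 2, 3, 0, 3, 1, 0]),
  ([1, 0, 2, 1, 0, 1, 2, 0, 3], [0, 1, 0, 2, 1, 0, 1, 3, 0]),
  ([1, 0, 2, 1, 0, 1, 2, 3, 0], [0, 1, 0, 2, 1, 0, 1, 0, 3]),
  ([1, 0, 2, 1, 0, 1, 3, 0, 3], [0, 1, 0, 2, 1, 0, 1, 2, 0]),
  ([1, 0, 2, 1, 3, 0, 2, 1, 3], [0, 1, 0, 2, 1, 3, 0, 2, 1]),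
  ([1, 0, 2, 1, 3, 0, 2, 3, 1], [0, 1, 0, 2, 1, 3, 0, 2, 3]),
  ([1, 0, 3, 0, 1, 0, 1, 0, 1], [3, 1, 0, 1, 3, 1, 0, 3]),
  ([1, 0, 3, 0, 1, 0, 4, 3, 0], [3, 1, 0, 3, 0, 1, 4, 3]),
  ([1, 0, 3, 0, 1, 2, 3, 0, 3], [3, 1, 0, 3, 0, 1, 2, 0]),
  ([1, 0, 3, 0, 1, 3, 0, 2, 3], [3, 1, 0, 3, 0, 1, 0, 2]),
  ([1, 0, 3, 0, 1, 3, 1, 2, 0], [0, 3, 0, 3, 1, 2, 0, 3]),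
  ([1, 0, 3, 0, 1, 3, 1, 2, 1], [2, 1, 0, 3, 0, 2, 1, 3]),
  ([1, 0, 3, 0, 2, 1, 3, 1, 0], [0, 3, 0, 2, 3, 1, 2, 0, 3]),
  ([1, 0, 3, 0, 2, 1, 3, 1, 2], [2, 1, 0, 3, 0, 1, 3, 1]),
  ([1, 0, 3, 0, 2, 3, 1, 0, 1], [0, 1, 2, 0, 1, 0, 1, 0, 2]),
  ([1, 0, 3, 0, 2, 3, 1, 0, 3], [0, 3, 0, 2, 1, 3, 1, 2, 0]),
  ([1, 0, 3, 0, 3, 1, 0, 2, 3], [0, 3, 0, 1, 3, 1, 0, 2]),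
  ([1, 0, 3, 0, 3, 1, 0, 4, 3], [0, 3, 0, 3, 1, 4, 3, 0]),
  ([1, 0, 3, 0, 3, 1, 2, 0, 3], [0, 3, 0, 1, 3, 1, 2, 0]),
  ([1, 0, 3, 0, 3, 1, 4, 3, 0], [0, 3, 0, 3, 1, 0, 4, 3]),
  ([1, 0, 3, 1, 0, 1, 0, 1, 3], [3, 1, 0, 3, 1, 0, 3, 0]),
  ([1, 0, 4, 3, 0, 1, 0, 3, 0], [4, 3, 1, 0, 3, 0, 1, 3]),
  ([1, 0, 4, 3, 0, 1, 3, 0, 3], [4, 3, 1, 0, 3, 0, 1, 0]),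
  ([1, 2, 0, 1, 0, 1, 0, 2, 1], [0, 1, 0, 3, 0, 2, 3, 1, 0]),
  ([1, 2, 0, 1, 0, 1, 0, 2, 3], [0, 1, 2, 0, 1, 0, 1, 3, 0]),
  ([1, 2, 0, 1, 0, 1, 3, 0, 2], [0, 1, 2, 0, 1, 0, 1, 0, 3]),
  ([1, 2, 0, 2, 1, 0, 1, 2, 0], [0, 1, 2, 0, 2, 1, 0, 1, 2]),
  ([1, 2, 1, 0, 3, 0, 1, 3, 1], [0, 3, 0, 2, 1, 3, 1, 2]),
  ([1, 2, 1, 0, 3, 0, 2, 1, 3], [0, 3, 0, 1, 3, 1, 2, 1]),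
  ([1, 2, 1, 3, 1, 0, 3, 0, 1], [3, 1, 0, 3, 0, 2, 1, 2]),
  ([1, 2, 1, 3, 1, 0, 3, 0, 2], [3, 1, 0, 3, 0, 1, 2, 1]),
  ([1, 2, 3, 0, 2, 3, 1, 0, 1], [0, 1, 0, 2, 0, 2, 3, 0, 3]),
  ([1, 3, 0, 1, 3, 0, 1, 3, 0], [0, 1, 3, 0, 1, 3, 0, 1, 3]),
  ([1, 3, 0, 1, 3, 1, 0, 1, 3], [0, 1, 0, 1, 0, 3, 0, 1]),
  ([1, 3, 0, 1, 3, 1, 0, 2, 0], [0, 1, 3, 0, 3, 1, 2, 0, 3]),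
  ([1, 3, 0, 1, 3, 1, 0, 3, 1], [0, 1, 0, 1, 0, 3, 0, 3]),
  ([1, 3, 0, 1, 3, 1, 4, 3, 0], [0, 1, 3, 0, 1, 3, 1, 4, 3]),
  ([1, 3, 1, 0, 1, 3, 1, 0, 3], [0, 3, 0, 1, 0, 1, 0, 1]),
  ([1, 3, 1, 0, 3, 0, 1, 2, 0], [0, 3, 0, 1, 2, 3, 0, 3]),
  ([1, 3, 1, 0, 3, 0, 1, 2, 1], [2, 1, 3, 1, 0, 3, 0, 2]),
  ([1, 3, 1, 0, 3, 0, 1, 2, 3], [0, 3, 0, 1, 0, 3, 0, 2]),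
  ([1, 3, 1, 0, 3, 0, 1, 4, 3], [0, 3, 0, 1, 0, 4, 3, 0]),
  ([1, 3, 1, 0, 3, 0, 2, 1, 0], [0, 3, 0, 2, 1, 2, 3, 0, 3]),
  ([1, 3, 1, 0, 3, 0, 2, 1, 2], [2, 1, 3, 1, 0, 3, 0, 1]),
  ([1, 3, 1, 0, 3, 0, 2, 1, 3], [0, 3, 0, 2, 1, 0, 3, 0, 2]),
  ([1, 3, 1, 0, 3, 1, 0, 3, 0], [0, 3, 1, 0, 1, 0, 1, 3]),
  ([1, 4, 3, 1, 0, 3, 0, 1, 0], [0, 4, 3, 0, 1, 3, 0, 3]),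
  ([1, 4, 3, 1, 0, 3, 0, 1, 3], [0, 4, 3, 0, 1, 0, 3, 0]),
  ([2, 0, 1, 0, 1, 0, 2, 0, 2], [0, 2, 0, 2, 0, 2, 1, 0, 1]),
  ([2, 0, 1, 0, 1, 0, 2, 1, 0], [1, 0, 1, 0, 3, 0, 2, 3, 1]),
  ([2, 0, 1, 0, 1, 0, 2, 1, 3], [1, 3, 0, 2, 1, 3, 1, 2, 0]),
  ([2, 0, 1, 0, 1, 0, 2, 3, 0], [1, 0, 1, 2, 0, 1, 0, 1, 3]),
  ([2, 0, 1, 0, 1, 0, 3, 0, 2], [0, 2, 1, 0, 1, 0, 2, 3, 0]),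
  ([2, 0, 1, 0, 1, 0, 3, 0, 3], [0, 3, 0, 2, 3, 1, 0, 1, 0]),
  ([2, 0, 1, 0, 1, 2, 4, 3, 0], [0, 2, 1, 0, 1, 4, 3, 0, 2]),
  ([2, 0, 1, 0, 1, 3, 0, 1, 3], [0, 3, 0, 2, 3, 1, 0, 3, 1]),
  ([2, 0, 1, 0, 1, 3, 0, 2, 3], [0, 3, 0, 2, 3, 1, 0, 1, 2]),
  ([2, 0, 1, 0, 2, 0, 2, 0, 1], [0, 2, 0, 1, 0, 2, 0, 2, 0]),
  ([2, 0, 1, 0, 2, 0, 2, 1, 2], [0, 2, 1, 0, 1, 0, 1, 2, 0]),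
  ([2, 0, 1, 3, 1, 0, 3, 1, 0], [0, 3, 0, 2, 1, 3, 0, 3, 1]),
  ([2, 0, 2, 0, 1, 0, 2, 0, 2], [0, 1, 0, 2, 0, 2, 0, 1, 0]),
  ([2, 0, 2, 0, 1, 0, 2, 1, 2], [1, 0, 1, 0, 2, 0, 1, 2, 1]),
  ([2, 0, 2, 0, 1, 2, 0, 2, 1], [0, 2, 0, 2, 0, 1, 2, 0, 2]),
  ([2, 0, 2, 0, 2, 1, 0, 1, 2], [0, 2, 0, 1, 0, 1, 0, 2, 0]),
  ([2, 0, 2, 0, 3, 1, 0, 1, 2], [3, 1, 0, 1, 0, 2, 0]),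
  ([2, 0, 2, 0, 3, 1, 0, 1, 3], [0, 3, 1, 0, 1, 2, 3, 0, 2]),
  ([2, 0, 2, 1, 0, 1, 2, 0, 2], [0, 1, 0, 1, 0, 2, 0, 2, 0]),
  ([2, 0, 2, 1, 0, 1, 4, 3, 0], [0, 1, 0, 1, 2, 4, 3, 0, 2]),
  ([2, 0, 2, 1, 0, 2, 0, 2, 0], [1, 2, 0, 2, 1, 0, 2, 0, 2]),
  ([2, 0, 2, 1, 0, 4, 3, 0, 2], [1, 2, 0, 2, 1, 2, 4, 3, 0]),
  ([2, 0, 2, 1, 2, 4, 3, 0, 2], [1, 2, 0, 2, 1, 0, 4, 3, 0]),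
  ([2, 0, 2, 3, 0, 1, 0, 1, 2], [0, 3, 0, 1, 0, 1, 0, 2, 0]),
  ([2, 0, 2, 3, 1, 2, 0, 1, 2], [0, 3, 0, 1, 2, 0, 1, 2, 1]),
  ([2, 0, 2, 4, 3, 1, 0, 1, 0], [0, 4, 3, 1, 0, 1, 2, 0, 2]),
  ([2, 0, 2, 4, 3, 1, 2, 0, 2], [0, 4, 3, 0, 1, 2, 0, 2, 1]),
  ([2, 0, 3, 1, 0, 1, 2, 3, 0], [0, 2, 0, 3, 1, 0, 1, 2, 3]),
  ([2, 0, 3, 1, 2, 0, 1, 0, 1], [1, 3, 1, 2, 0, 3, 1, 2, 0]),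
  ([2, 0, 4, 3, 1, 0, 1, 2, 0], [0, 2, 4, 3, 1, 0, 1, 0, 2]),
  ([2, 1, 0, 1, 0, 1, 2, 0, 2], [0, 2, 0, 1, 0, 2, 0, 2, 1]),
  ([2, 1, 0, 1, 0, 2, 3, 0, 2], [0, 2, 0, 1, 0, 1, 0, 3, 0]),
  ([2, 1, 0, 1, 0, 3, 0, 2, 3], [0, 1, 0, 1, 0, 2, 1, 0, 1]),
  ([2, 1, 0, 1, 2, 0, 1, 0, 1], [0, 1, 0, 1, 0, 2, 3, 0, 3]),
  ([2, 1, 0, 1, 2, 0, 2, 1, 0], [0, 2, 1, 0, 1, 2, 0, 2, 1]),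
  ([2, 1, 0, 2, 0, 1, 0, 1, 2], [1, 2, 1, 2, 0, 1, 0, 2, 0]),
  ([2, 1, 0, 2, 1, 0, 3, 0, 2], [1, 2, 1, 0, 2, 1, 2, 3, 0]),
  ([2, 1, 0, 2, 1, 2, 3, 0, 2], [1, 2, 1, 0, 2, 1, 0, 3, 0]),
  ([2, 1, 0, 3, 0, 1, 3, 1, 2], [1, 0, 3, 0, 2, 1, 3, 1]),
  ([2, 1, 0, 3, 0, 2, 1, 3, 1], [1, 0, 3, 0, 1, 3, 1, 2]),
  ([2, 1, 2, 0, 1, 0, 1, 0, 1], [1, 2, 1, 2, 0, 1, 0, 1, 0]),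
  ([2, 1, 2, 0, 1, 0, 2, 0, 2], [1, 2, 1, 0, 2, 0, 1, 0, 1]),
  ([2, 1, 2, 0, 1, 3, 0, 3, 1], [1, 2, 1, 2, 3, 0, 3, 1, 0]),
  ([2, 1, 3, 0, 2, 1, 3, 1, 2], [0, 1, 0, 1, 0, 2, 1, 3, 0]),
  ([2, 1, 3, 1, 0, 3, 0, 1, 2], [1, 3, 1, 0, 3, 0, 2, 1]),
  ([2, 1, 3, 1, 0, 3, 0, 2, 1], [1, 3, 1, 0, 3, 0, 1, 2]),
  ([2, 1, 3, 1, 2, 0, 3, 1, 2], [0, 3, 1, 2, 0, 1, 0, 1, 0]),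
  ([2, 3, 0, 1, 0, 1, 0, 2, 1], [0, 3, 1, 0, 1, 0, 2, 1, 0]),
  ([2, 3, 0, 1, 0, 1, 2, 3, 0], [0, 2, 3, 0, 1, 0, 1, 2, 3]),
  ([2, 3, 0, 2, 3, 1, 0, 1, 0], [1, 0, 1, 0, 2, 3, 0, 2, 3]),
  ([2, 3, 0, 2, 3, 1, 2, 0, 2], [0, 3, 0, 3, 1, 2, 0, 2, 1]),
  ([2, 3, 0, 3, 1, 2, 0, 1, 0], [1, 2, 3, 0, 3, 1, 2, 0, 1]),
  ([2, 3, 1, 0, 1, 2, 0, 1, 0], [0, 3, 0, 1, 0, 1, 2, 0, 1]),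
  ([2, 3, 1, 0, 3, 0, 2, 1, 3], [0, 3, 0, 1, 0, 3, 0, 2, 1]),
  ([2, 3, 1, 2, 1, 0, 4, 3, 0], [0, 3, 0, 1, 2, 1, 4, 3]),
  ([2, 3, 1, 2, 1, 3, 0, 2, 3], [0, 3, 0, 1, 2, 1, 0, 2]),
  ([2, 3, 4, 3, 1, 2, 0, 2, 1], [0, 2, 3, 4, 3, 1, 2, 0, 2]),
  ([2, 4, 3, 1, 0, 1, 0, 2, 0], [0, 2, 0, 4, 3, 1, 0, 1, 2]),
  ([2, 4, 3, 1, 2, 1, 0, 3, 0], [0, 4, 3, 0, 1, 2, 1, 3]),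
  ([2, 4, 3, 1, 2, 1, 3, 0, 3], [0, 4, 3, 0, 1, 2, 1, 0]),
  ([3, 0, 1, 0, 1, 0, 1, 3, 0], [0, 1, 3, 1, 0, 1, 3, 1]),
  ([3, 0, 1, 0, 1, 0, 2, 0, 2], [0, 2, 0, 2, 3, 0, 1, 0, 1]),
  ([3, 0, 1, 0, 1, 0, 2, 0, 3], [0, 3, 0, 1, 0, 1, 2, 3, 0]),
  ([3, 0, 1, 0, 1, 0, 2, 1, 0], [2, 0, 3, 1, 0, 1, 0, 2, 1]),
  ([3, 0, 1, 0, 1, 0, 2, 3, 0], [0, 3, 0, 1, 0, 1, 2, 0, 3]),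
  ([3, 0, 1, 0, 1, 0, 4, 3, 0], [0, 3, 0, 1, 0, 1, 0, 4, 3]),
  ([3, 0, 1, 0, 1, 2, 0, 1, 0], [0, 2, 3, 1, 0, 1, 2, 0, 1]),
  ([3, 0, 1, 0, 1, 2, 3, 0, 2], [2, 0, 2, 3, 0, 1, 0, 1, 3]),
  ([3, 0, 1, 0, 1, 2, 3, 0, 3], [0, 3, 0, 1, 0, 1, 0, 2, 0]),
  ([3, 0, 1, 0, 3, 0, 1, 2, 0], [0, 1, 0, 3, 0, 1, 2, 0, 3]),
  ([3, 0, 1, 0, 3, 0, 1, 2, 3], [0, 3, 1, 0, 3, 0, 1, 2]),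
  ([3, 0, 1, 0, 3, 0, 2, 1, 3], [0, 2, 3, 1, 0, 3, 0, 2, 1]),
  ([3, 0, 1, 0, 3, 0, 2, 3, 1], [0, 2, 1, 3, 1, 0, 3, 0, 2]),
  ([3, 0, 1, 0, 4, 3, 0, 1, 3], [0, 3, 1, 0, 4, 3, 0, 1]),
  ([3, 0, 1, 2, 0, 1, 2, 1, 2], [0, 2, 0, 2, 3, 1, 2, 0, 1]),
  ([3, 0, 1, 2, 1, 0, 4, 3, 0], [0, 2, 3, 1, 2, 1, 4, 3]),
  ([3, 0, 1, 2, 1, 2, 0, 2, 3], [0, 3, 1, 2, 1, 3, 0, 2]),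
  ([3, 0, 1, 2, 1, 2, 0, 4, 3], [0, 3, 1, 2, 1, 4, 3, 0]),
  ([3, 0, 1, 2, 1, 2, 4, 3, 0], [0, 3, 1, 2, 1, 0, 4, 3]),
  ([3, 0, 1, 2, 1, 3, 0, 2, 3], [0, 2, 3, 1, 2, 1, 0, 2]),
  ([3, 0, 1, 3, 0, 1, 3, 0, 1], [1, 0, 3, 1, 0, 3, 1, 0, 3]),
  ([3, 0, 1, 3, 0, 1, 3, 0, 3], [1, 0, 1, 3, 0, 1, 3, 0, 1]),
  ([3, 0, 1, 3, 1, 0, 1, 3, 1], [0, 1, 0, 1, 0, 1, 3, 0]),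
  ([3, 0, 1, 3, 1, 0, 3, 1, 0], [1, 0, 1, 0, 1, 3, 0, 3]),
  ([3, 0, 2, 1, 0, 1, 0, 3, 0], [0, 2, 3, 0, 1, 0, 1, 0, 3]),
  ([3, 0, 2, 1, 0, 1, 2, 0, 1], [0, 3, 1, 0, 1, 2, 0, 1, 0]),
  ([3, 0, 2, 1, 0, 1, 4, 3, 0], [0, 2, 3, 0, 1, 0, 1, 4, 3]),
  ([3, 0, 2, 1, 0, 3, 0, 1, 0], [0, 2, 1, 0, 3, 0, 1, 0, 3]),
  ([3, 0, 2, 1, 0, 3, 0, 1, 3], [0, 2, 3, 1, 0, 3, 0, 1]),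
  ([3, 0, 2, 1, 0, 3, 0, 2, 1], [0, 3, 1, 0, 3, 0, 2, 1, 3]),
  ([3, 0, 2, 1, 0, 3, 0, 2, 3], [0, 1, 3, 1, 0, 3, 0, 2, 1]),
  ([3, 0, 2, 1, 0, 3, 0, 3, 1], [0, 2, 1, 3, 1, 0, 3, 0]),
  ([3, 0, 2, 1, 3, 1, 0, 3, 0], [0, 2, 1, 0, 3, 0, 3, 1]),
  ([3, 0, 2, 1, 3, 1, 2, 0, 3], [0, 1, 0, 3, 0, 2, 3, 1, 0]),
  ([3, 0, 2, 1, 3, 1, 2, 1, 3], [0, 1, 2, 1, 0, 3, 0, 1]),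
  ([3, 0, 2, 3, 1, 0, 1, 0, 2], [2, 1, 0, 1, 0, 2, 3, 0, 3]),
  ([3, 0, 2, 3, 1, 0, 1, 0, 3], [0, 2, 0, 1, 0, 1, 0, 3, 0]),
  ([3, 0, 2, 3, 1, 0, 1, 2, 0], [0, 1, 0, 1, 2, 0, 1, 0, 1]),
  ([3, 0, 2, 3, 1, 0, 1, 2, 3], [0, 2, 0, 1, 0, 1, 3, 0, 2]),
  ([3, 0, 2, 3, 1, 0, 1, 4, 3], [0, 2, 0, 1, 0, 1, 4, 3, 0]),
  ([3, 0, 2, 3, 1, 0, 3, 0, 1], [0, 2, 1, 0, 3, 0, 1, 3]),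
  ([3, 0, 2, 3, 1, 0, 3, 0, 2], [0, 1, 0, 3, 0, 2, 1, 3, 1]),
  ([3, 0, 2, 3, 1, 2, 0, 2, 1], [0, 3, 0, 2, 3, 1, 2, 0, 2]),
  ([3, 0, 2, 3, 1, 2, 1, 4, 3], [0, 1, 2, 1, 0, 4, 3, 0]),
  ([3, 0, 3, 1, 0, 3, 0, 2, 1], [0, 2, 1, 0, 3, 0, 2, 1, 3]),
  ([3, 0, 3, 1, 0, 4, 3, 0, 1], [0, 1, 0, 4, 3, 0, 1, 3]),
  ([3, 0, 3, 1, 2, 0, 1, 0, 1], [2, 1, 2, 3, 0, 3, 1, 2, 0]),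
  ([3, 0, 3, 1, 2, 1, 0, 2, 3], [0, 1, 2, 1, 2, 3, 0, 2]),
  ([3, 0, 3, 1, 2, 1, 0, 4, 3], [0, 1, 2, 1, 2, 4, 3, 0]),
  ([3, 0, 3, 1, 2, 1, 4, 3, 0], [0, 1, 2, 1, 2, 0, 4, 3]),
  ([3, 1, 0, 1, 0, 1, 3, 0, 1], [0, 3, 0, 1, 3, 0, 1, 3]),
  ([3, 1, 0, 1, 0, 1, 3, 0, 3], [0, 1, 3, 1, 0, 3, 1, 0]),
  ([3, 1, 0, 1, 0, 2, 0, 4, 3], [0, 3, 1, 0, 1, 2, 4, 3, 0]),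
  ([3, 1, 0, 1, 0, 2, 1, 0, 1], [0, 2, 3, 0, 1, 0, 1, 0, 2]),
  ([3, 1, 0, 1, 0, 2, 4, 3, 0], [0, 3, 1, 0, 1, 2, 0, 4, 3]),
  ([3, 1, 0, 1, 2, 0, 1, 0, 1], [0, 3, 0, 2, 1, 0, 1, 2, 0]),
  ([3, 1, 0, 1, 2, 3, 0, 2, 3], [0, 2, 0, 2, 0, 3, 1, 0, 1]),
  ([3, 1, 0, 1, 3, 1, 0, 3, 0], [1, 0, 3, 1, 0, 1, 0, 1]),
  ([3, 1, 0, 1, 3, 1, 0, 3, 1], [1, 0, 3, 0, 1, 0, 1, 0]),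
  ([3, 1, 0, 2, 0, 2, 1, 3, 1], [1, 3, 1, 0, 2, 0, 2, 1, 3]),
  ([3, 1, 0, 2, 1, 2, 0, 1, 2], [2, 3, 1, 2, 1, 0, 1, 2, 1]),
  ([3, 1, 0, 2, 3, 0, 1, 3, 1], [1, 3, 1, 0, 2, 3, 0, 1, 3]),
  ([3, 1, 0, 2, 3, 0, 2, 4, 3], [1, 3, 1, 0, 2, 4, 3, 0, 2]),
  ([3, 1, 0, 2, 3, 1, 4, 3, 1], [1, 3, 1, 4, 3, 0, 2, 1, 3]),
  ([3, 1, 0, 3, 0, 1, 0, 1, 0], [1, 0, 1, 3, 1, 0, 3, 1]),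
  ([3, 1, 0, 3, 0, 1, 0, 1, 3], [1, 3, 1, 0, 1, 0, 1, 3, 0]),
  ([3, 1, 0, 3, 0, 1, 0, 2, 3], [1, 0, 3, 0, 1, 3, 0, 2]),
  ([3, 1, 0, 3, 0, 1, 0, 4, 3], [1, 0, 3, 0, 1, 4, 3, 0]),
  ([3, 1, 0, 3, 0, 1, 2, 0, 3], [1, 0, 3, 0, 1, 2, 3, 0]),
  ([3, 1, 0, 3, 0, 1, 2, 1, 0], [1, 2, 1, 3, 1, 2, 0, 3]),
  ([3, 1, 0, 3, 0, 1, 2, 1, 2], [1, 2, 1, 3, 1, 0, 3, 0]),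
  ([3, 1, 0, 3, 0, 1, 2, 1, 3], [1, 2, 3, 1, 0, 3, 0, 2]),
  ([3, 1, 0, 3, 0, 1, 2, 3, 0], [1, 0, 3, 0, 1, 2, 0, 3]),
  ([3, 1, 0, 3, 0, 1, 4, 3, 0], [1, 0, 3, 0, 1, 0, 4, 3]),
  ([3, 1, 0, 3, 0, 1, 4, 3, 1], [1, 3, 1, 0, 4, 3, 0, 1, 3]),
  ([3, 1, 0, 3, 0, 2, 1, 0, 3], [1, 0, 3, 0, 2, 1, 2, 3, 0]),
  ([3, 1, 0, 3, 0, 2, 1, 2, 0], [1, 0, 3, 0, 2, 1, 3, 0, 3]),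
  ([3, 1, 0, 3, 0, 2, 1, 2, 3], [1, 0, 3, 0, 2, 1, 0, 3, 0]),
  ([3, 1, 0, 3, 0, 2, 1, 3, 0], [1, 0, 3, 0, 2, 1, 2, 0, 3]),
  ([3, 1, 0, 3, 0, 2, 1, 3, 1], [0, 3, 0, 2, 1, 0, 3, 0, 2]),
  ([3, 1, 0, 3, 1, 0, 4, 3, 1], [1, 3, 0, 1, 4, 3, 0, 1, 3]),
  ([3, 1, 2, 0, 1, 0, 1, 0, 2], [0, 2, 1, 3, 1, 2, 0, 3, 1]),
  ([3, 1, 2, 0, 2, 0, 1, 3, 1], [1, 3, 1, 2, 0, 2, 0, 1, 3]),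
  ([3, 1, 2, 0, 2, 1, 0, 3, 0], [2, 3, 0, 2, 1, 2, 3, 0, 2]),
  ([3, 1, 2, 0, 2, 3, 0, 2, 3], [1, 3, 1, 2, 0, 2, 3, 0, 2]),
  ([3, 1, 2, 0, 2, 3, 0, 4, 3], [1, 3, 1, 2, 0, 2, 4, 3, 0]),
  ([3, 1, 2, 0, 3, 1, 0, 1, 3], [1, 3, 1, 2, 1, 0, 1, 3, 0]),
  ([3, 1, 2, 0, 3, 1, 2, 0, 1], [1, 2, 0, 3, 1, 2, 0, 1, 0]),
  ([3, 1, 2, 0, 3, 1, 4, 3, 1], [1, 3, 1, 2, 4, 3, 0, 1, 3]),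
  ([3, 1, 2, 1, 0, 1, 2, 1, 2], [2, 3, 1, 0, 2, 1, 2, 0, 1]),
  ([3, 1, 2, 1, 0, 1, 3, 0, 3], [1, 3, 1, 2, 0, 3, 1, 0, 1]),
  ([3, 1, 2, 1, 0, 3, 0, 1, 3], [0, 3, 0, 2, 1, 2, 3, 1]),
  ([3, 1, 2, 1, 0, 4, 3, 0, 2], [0, 3, 0, 1, 2, 1, 4, 3]),
  ([3, 1, 4, 3, 1, 0, 3, 1, 0], [0, 3, 1, 4, 3, 1, 0, 3, 1]),
  ([4, 3, 0, 1, 2, 3, 1, 2, 1], [3, 0, 3, 1, 2, 4, 3, 1, 2]),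
  ([4, 3, 0, 4, 3, 1, 4, 3, 1], [3, 0, 4, 3, 4, 3, 1, 4, 3])]

/-- the data of the labelled action -/
noncomputable def D : SAData := mkD 5 98280 piT parT 3 rels

/-- the certificate -/
noncomputable def C : SCert :=
  { q := 5, T := 2, W := 7, c := 4, eW := 26, rW := 9, ent := ent,
    gs := fun t => List.getD [393120, 393659] t 0, nn := 5 }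

end Cfsg.Agent.Lib.Helper1.Co1Mu.P5
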