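import Cfsg.Agent.Lib.Helper1.Co1Mu.P5.K4
import Cfsg.Agent.Lib.Helper1.Co1Mu.P5.Cert
set_option autoImplicit false
set_option maxRecDepth 1000000
set_option Elab.async false
namespace Cfsg.Agent.Lib.Helper1.Co1Mu.P5
open Cfsg.Agent.Lib.Helper4.Sparse
theorem ck_72 : chkURange D C 294912 4096 = true := by decide +kernel
theorem ck_73 : chkURange D C 299008 4096 = true := by decide +kernel
theorem ck_74 : chkURange D C 303104 4096 = true := by decide +kernel
theorem ck_75 : chkURange D C 307200 4096 = true := by decide +kernel
theorem ck_76 : chkURange D C 311296 4096 = true := by decide +kernel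
theorem ck_77 : chkURange D C 315392 4096 = true := by decide +kernel
theorem ck_78 : chkURange D C 319488 4096 = true := by decide +kernel
theorem ck_79 : chkURange D C 323584 4096 = true := by decide +kernel
theorem ck_80 : chkURange D C 327680 4096 = true := by decide +kernel
theorem ck_81 : chkURange D C 331776 4096 = true := by decide +kernel
theorem ck_82 : chkURange D C 335872 4096 = true := by decide +kernel
theorem ck_83 : chkURange D C 339968 4096 = true := by decide +kernel
theorem chkU_6 (b : ℕ) (h1 : 294912 ≤ b) (h2 : b < 344064) : chkU D C b = true := by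
  rcases Nat.lt_or_ge b 299008 with g0 | g0
  · exact chkURange_spec D C 294912 4096 ck_72 b (by omega) (by omega)
  rcases Nat.lt_or_ge b 303104 with g1 | g1
  · exact chkURange_spec D C 299008 4096 ck_73 b (by omega) (by omega)
  rcases Nat.lt_or_ge b 307200 with g2 | g2
  · exact chkURange_spec D C 303104 4096 ck_74 b (by omega) (by omega)
  rcases Nat.lt_or_ge b 311296 with g3 | g3
  · exact chkURange_spec D C 307200 4096 ck_75 b (by omega) (by omega)
  rcases Nat.lt_or_ge b 315392 with g4 | g4
  · exact chkURange_spec D C 311296 4096 ck_76 b (by omega) (by omega)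
  rcases Nat.lt_or_ge b 319488 with g5 | g5
  · exact chkURange_spec D C 315392 4096 ck_77 b (by omega) (by omega)
  rcases Nat.lt_or_ge b 323584 with g6 | g6
  · exact chkURange_spec D C 319488 4096 ck_78 b (by omega) (by omega)
  rcases Nat.lt_or_ge b 327680 with g7 | g7
  · exact chkURange_spec D C 323584 4096 ck_79 b (by omega) (by omega)
  rcases Nat.lt_or_ge b 331776 with g8 | g8
  · exact chkURange_spec D C 327680 4096 ck_80 b (by omega) (by omega)
  rcases Nat.lt_or_ge b 335872 with g9 | g9
  · exact chkURange_spec D C 331776 4096 ck_81 b (by omega) (by omega)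
  rcases Nat.lt_or_ge b 339968 with g10 | g10
  · exact chkURange_spec D C 335872 4096 ck_82 b (by omega) (by omega)
  exact chkURange_spec D C 339968 4096 ck_83 b (by omega) (by omega)
end Cfsg.Agent.Lib.Helper1.Co1Mu.P5
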